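import Groth.Agent.Sga7.H481.InertiaField
import Mathlib.FieldTheory.PrimitiveElement
import Mathlib.FieldTheory.KrullTopology

/-!
# The strictly henselian field attached to an automorphism

`R` a discrete valuation ring with fraction field `K`, `Ω` a separable closure, `W` a valuation ring of `Ω` over `R`, `σ`
an automorphism of `Ω` over `K` inducing the `Q`-power map on the residue field of `W`, `π'` an open subgroup of the Galois
group: a finite extension `K₁` of the inertia field stable under `σ`, whose Galois group is contained in `π'`.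
-/

set_option autoImplicit false
universe u

namespace K222.Strict

open IsLocalRing Groth.Agent.Sga7.H481 Groth.Agent.Sga7.H481.InertiaField Groth.Agent

section stab

variable {K Ω : Type u} [Field K] [Field Ω] [Algebra K Ω] {W : ValuationSubring Ω}

/-- `σ` preserves `W` and its maximal ideal -/
def Stab (W : ValuationSubring Ω) (σ : Ω ≃ₐ[K] Ω) : Prop :=
  (∀ y, σ y ∈ W ↔ y ∈ W) ∧ ∀ y, W.valuation (σ y) < 1 ↔ W.valuation y < 1

theorem Stab.symm {σ : Ω ≃ₐ[K] Ω} (h : Stab W σ) : Stab W σ⁻¹ := by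
  have hinv : ∀ y, σ (σ⁻¹ y) = y := fun y => by rw [← AlgEquiv.mul_apply, mul_inv_cancel, AlgEquiv.one_apply]
  refine ⟨fun y => ?_, fun y => ?_⟩
  · rw [← h.1 (σ⁻¹ y), hinv]
  · rw [← h.2 (σ⁻¹ y), hinv]

/-- an automorphism inducing the `Q`-power map on the residue field -/
theorem stab_of_pow {σ : Ω ≃ₐ[K] Ω} {Q : ℕ} (hQ : Q ≠ 0)
    (h : ∀ y, y ∈ W → σ y ∈ W ∧ W.valuation (σ y - y ^ Q) < 1) : Stab W σ := by
  have key : ∀ y, y ∈ W → (W.valuation (σ y) < 1 ↔ W.valuation y < 1) := by
    intro y hy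
    have h1 := (h y hy).2
    constructor
    · intro h2
      have h3 : W.valuation (y ^ Q) < 1 := by
        have : y ^ Q = σ y - (σ y - y ^ Q) := by ring
        rw [this]
        exact Valuation.map_sub_lt _ h2 h1
      rw [map_pow] at h3
      exact (pow_lt_one_iff_of_nonneg zero_le hQ).1 h3
    · intro h2
      have h3 : W.valuation (y ^ Q) < 1 := by
        rw [map_pow]
        exact (pow_lt_one_iff_of_nonneg zero_le hQ).2 h2
      have : σ y = (σ y - y ^ Q) + y ^ Q := by ring
      rw [this]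
      exact Valuation.map_add_lt _ h1 h3
  have inv_lt : ∀ y, y ∉ W → W.valuation y⁻¹ < 1 := by
    intro y hy
    have h2 : (1 : W.ValueGroup) < W.valuation y := by
      rw [← not_le, W.valuation_le_one_iff]
      exact hy
    rw [map_inv₀]
    exact inv_lt_one_of_one_lt₀ h2
  have not_mem : ∀ y, y ≠ 0 → W.valuation y⁻¹ < 1 → y ∉ W := by
    intro y hy0 h1 h2
    have h3 := (W.valuation_le_one_iff y).2 h2
    have h4 : W.valuation y * W.valuation y⁻¹ = 1 := by rw [← map_mul, mul_inv_cancel₀ hy0, map_one]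
    have h5 : W.valuation y * W.valuation y⁻¹ < 1 := mul_lt_one_of_nonneg_of_lt_one_right h3 zero_le h1
    rw [h4] at h5
    exact lt_irrefl _ h5
  have hmem : ∀ y, σ y ∈ W ↔ y ∈ W := by
    intro y
    refine ⟨fun h1 => ?_, fun h1 => (h y h1).1⟩
    by_contra h2
    have hy0 : y ≠ 0 := fun h0 => h2 (h0 ▸ W.zero_mem)
    have h3 := inv_lt y h2
    have h4 : y⁻¹ ∈ W := (W.valuation_le_one_iff _).1 h3.le
    have h5 := (key y⁻¹ h4).2 h3
    rw [map_inv₀] at h5
    exact not_mem (σ y) (by rwa [Ne, map_eq_zero_iff _ σ.injective]) h5 h1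
  refine ⟨hmem, fun y => ?_⟩
  by_cases hy : y ∈ W
  · exact key y hy
  · have h1 : σ y ∉ W := fun h2 => hy ((hmem y).1 h2)
    constructor
    · intro h2
      exact absurd ((W.valuation_le_one_iff _).1 h2.le) h1
    · intro h2
      exact absurd ((W.valuation_le_one_iff _).1 h2.le) hy

/-- conjugation preserves the inertia group -/
theorem isInertia_conj {σ τ : Ω ≃ₐ[K] Ω} (h : Stab W σ) (hτ : SGA7.IsInertia W τ) : SGA7.IsInertia W (σ⁻¹ * τ * σ) := by
  intro y hy
  have h1 := hτ (σ y) ((h.1 y).2 hy)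
  refine ⟨(h.symm.1 _).2 h1.1, ?_⟩
  have h2 : (σ⁻¹ * τ * σ) y - y = σ⁻¹ (τ (σ y) - σ y) := by
    rw [map_sub]
    congr 1
    rw [← AlgEquiv.mul_apply, inv_mul_cancel, AlgEquiv.one_apply]
  rw [h2]
  exact (h.symm.2 _).2 h1.2

theorem map_mem_Knr {σ : Ω ≃ₐ[K] Ω} (h : Stab W σ) {x : Ω} (hx : x ∈ Knr K W) : σ x ∈ Knr K W := by
  rintro ⟨τ, hτ⟩
  change τ (σ x) = σ x
  have h1 := isInertia_conj h hτ
  have h2 : (σ⁻¹ * τ * σ) x = x := hx ⟨_, h1⟩
  have h3 := congrArg σ h2
  rwa [← AlgEquiv.mul_apply, ← mul_assoc, ← mul_assoc, mul_inv_cancel, one_mul, AlgEquiv.mul_apply] at h3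

end stab

/-- `Frac`-algebra map over a valuation ring -/
theorem exists_ext (R K Ω : Type u) [CommRing R] [IsDomain R] [IsDiscreteValuationRing R]
    (hR : EtCoh.IsStrictlyHenselianLocalRing R)
    [Field K] [Algebra R K] [IsFractionRing R K] [Field Ω] [Algebra K Ω] [IsSepClosure K Ω]
    {W : ValuationSubring Ω} (hW : SGA7.LiesOver K R W) (L : IntermediateField K Ω) [FiniteDimensional K L] :
    IsDiscreteValuationRing (W.comap (algebraMap L Ω)) ∧ EtCoh.IsStrictlyHenselianLocalRing (W.comap (algebraMap L Ω)) := by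
  let : Algebra R L := ((algebraMap K L).comp (algebraMap R K)).toAlgebra
  have hst : IsScalarTower R K L := IsScalarTower.of_algebraMap_eq' rfl
  let : Algebra R Ω := ((algebraMap K Ω).comp (algebraMap R K)).toAlgebra
  have hst2 : IsScalarTower R K Ω := IsScalarTower.of_algebraMap_eq' rfl
  have hst3 : IsScalarTower R L Ω := IsScalarTower.of_algebraMap_eq' rfl
  have : Algebra.IsSeparable K Ω := IsSepClosure.separable
  have : Algebra.IsSeparable K L := inferInstance
  have h1 := Groth.Agent.Sga4h.TameExt.isDiscreteValuationRing R K L hR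
  have h2 := Groth.Agent.Sga4h.TameExt.isStrictlyHenselianLocalRing R L hR
  have hmem : ∀ x : L, x ∈ integralClosure R L ↔ x ∈ W.comap (algebraMap L Ω) := by
    intro x
    change IsIntegral R x ↔ algebraMap L Ω x ∈ W
    rw [SHField.mem_iff_isIntegral R K Ω hR hW]
    exact (isIntegral_algebraMap_iff (algebraMap L Ω).injective).symm
  let e : integralClosure R L ≃+* W.comap (algebraMap L Ω) :=
    { toFun := fun x => ⟨x, (hmem x).1 x.2⟩
      invFun := fun x => ⟨x, (hmem x).2 x.2⟩
      left_inv := fun _ => rfl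
      right_inv := fun _ => rfl
      map_mul' := fun _ _ => rfl
      map_add' := fun _ _ => rfl }
  exact ⟨IsDiscreteValuationRing.RingEquivClass.isDiscreteValuationRing e,
    EtpbcB.StrHensEquiv.isStrictlyHenselian_of_ringEquiv e h2⟩

theorem mem_maximalIdeal_comap {L Ω : Type u} [Field L] [Field Ω] [Algebra L Ω] {W : ValuationSubring Ω}
    (a : W.comap (algebraMap L Ω)) (h : W.valuation (algebraMap L Ω a) < 1) :
    a ∈ maximalIdeal (W.comap (algebraMap L Ω)) := by
  rw [mem_maximalIdeal, mem_nonunits_iff]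
  rintro ⟨u, hu⟩
  have h1 : W.valuation (algebraMap L Ω ((u⁻¹ : (W.comap (algebraMap L Ω))ˣ) : W.comap (algebraMap L Ω))) ≤ 1 :=
    (W.valuation_le_one_iff _).2 ((u⁻¹ : (W.comap (algebraMap L Ω))ˣ) : W.comap (algebraMap L Ω)).2
  have h2 : algebraMap L Ω a * algebraMap L Ω ((u⁻¹ : (W.comap (algebraMap L Ω))ˣ) : W.comap (algebraMap L Ω)) = 1 := by
    rw [← map_mul, ← hu]
    have h3 : ((u : W.comap (algebraMap L Ω)) : L) * ((u⁻¹ : (W.comap (algebraMap L Ω))ˣ) : W.comap (algebraMap L Ω)) = 1 :=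
      congrArg Subtype.val u.mul_inv
    rw [h3, map_one]
  have h4 := congrArg W.valuation h2
  rw [map_mul, map_one] at h4
  have h5 := mul_lt_one_of_lt_of_le h h1
  rw [h4] at h5
  exact lt_irrefl _ h5

section main

variable (R K Ω : Type u) [CommRing R] [IsDomain R] [IsDiscreteValuationRing R]
    [Field K] [Algebra R K] [IsFractionRing R K] [Field Ω] [Algebra K Ω] [IsSepClosure K Ω]

/-- **The strictly henselian field.** -/
theorem exists_field (W : ValuationSubring Ω) (hW : SGA7.LiesOver K R W) (σ : Ω ≃ₐ[K] Ω) {Q : ℕ} (hQ : Q ≠ 0)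
    (hσ : ∀ y, y ∈ W → σ y ∈ W ∧ W.valuation (σ y - y ^ Q) < 1) (π' : OpenSubgroup (Ω ≃ₐ[K] Ω)) :
    ∃ (K₁ : Type u) (_ : Field K₁) (_ : Algebra K K₁) (_ : Algebra K₁ Ω) (_ : IsScalarTower K K₁ Ω)
      (_ : IsSepClosure K₁ Ω) (R₁ : Type u) (_ : CommRing R₁) (_ : IsDomain R₁) (_ : IsDiscreteValuationRing R₁)
      (_ : Algebra R₁ K₁) (_ : IsFractionRing R₁ K₁) (sK : K₁ ≃+* K₁) (s : R₁ ≃+* R₁),
      EtCoh.IsStrictlyHenselianLocalRing R₁ ∧
      (∀ x, σ (algebraMap K₁ Ω x) = algebraMap K₁ Ω (sK x)) ∧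
      (∀ r, sK (algebraMap R₁ K₁ r) = algebraMap R₁ K₁ (s r)) ∧
      (∀ r, s r - r ^ Q ∈ maximalIdeal R₁) ∧
      (∀ τ : Ω ≃ₐ[K₁] Ω, τ.restrictScalars K ∈ π' ∧ SGA7.IsInertia W (τ.restrictScalars K)) ∧
      (∀ l : ℕ, (l : ResidueField R) ≠ 0 → (l : ResidueField R₁) ≠ 0) ∧
      (∀ l : ℕ, (l : ResidueField R) = 0 → (l : ResidueField R₁) = 0) := by
  have hgal : IsGalois K Ω := IsSepClosure.isGalois
  have hst := stab_of_pow hQ hσ
  have hdvr := isDiscreteValuationRing_Rnr hW
  have hsh := isStrictlyHenselianLocalRing_Rnr hW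
  have hsc := isSepClosure_Knr K W
  have hlo := liesOver_Rnr K W
  -- the finite Galois extension
  obtain ⟨L₀, hL₀, hL₀n, hL₀U⟩ := (krullTopology_mem_nhds_one_iff_of_normal K Ω (π' : Set (Ω ≃ₐ[K] Ω))).1
    (π'.isOpen.mem_nhds π'.one_mem)
  obtain ⟨θ, hθ⟩ := Field.exists_primitive_element K L₀
  have hθ' : ∀ x ∈ L₀, x ∈ IntermediateField.adjoin K {(θ : Ω)} := by
    intro x hx
    have h9 : (⟨x, hx⟩ : L₀) ∈ IntermediateField.adjoin K {θ} := by
      rw [hθ]
      exact IntermediateField.mem_top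
    have h11 : (IntermediateField.adjoin K {θ}).map L₀.val = IntermediateField.adjoin K {(θ : Ω)} := by
      rw [IntermediateField.adjoin_map, Set.image_singleton]
      rfl
    rw [← h11]
    exact ⟨_, h9, rfl⟩
  let L : IntermediateField (Knr K W) Ω := IntermediateField.adjoin (Knr K W) {(θ : Ω)}
  have hint : IsIntegral (Knr K W) (θ : Ω) := Algebra.IsIntegral.isIntegral _
  have hLfd : FiniteDimensional (Knr K W) L := IntermediateField.adjoin.finiteDimensional hint
  have hKLΩ : IsScalarTower K L Ω := .of_algebraMap_eq fun _ => rfl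
  have hL₀L : ∀ x ∈ L₀, x ∈ L := by
    intro x hx
    have h1 : IntermediateField.adjoin K {(θ : Ω)} ≤ L.restrictScalars K := by
      rw [IntermediateField.adjoin_simple_le_iff]
      exact IntermediateField.mem_adjoin_simple_self (Knr K W) (θ : Ω)
    exact h1 (hθ' x hx)
  -- stability
  have hstabL : ∀ ρ : Ω ≃ₐ[K] Ω, Stab W ρ → ∀ x ∈ L, ρ x ∈ L := by
    intro ρ hρ x hx
    have h1 : ρ (θ : Ω) ∈ L := by
      apply hL₀L
      have h2 := AlgEquiv.restrictNormal_commutes ρ L₀ θ
      rw [← show algebraMap L₀ Ω θ = (θ : Ω) from rfl, ← h2]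
      exact (ρ.restrictNormal L₀ θ).2
    -- the preimage of `L`
    let M : IntermediateField (Knr K W) Ω :=
      { carrier := {x | ρ x ∈ L}
        mul_mem' := fun {a b} ha hb => by
          change ρ (a * b) ∈ L
          rw [map_mul]; exact L.mul_mem ha hb
        add_mem' := fun {a b} ha hb => by
          change ρ (a + b) ∈ L
          rw [map_add]; exact L.add_mem ha hb
        inv_mem' := fun a ha => by
          change ρ a⁻¹ ∈ L
          rw [map_inv₀]; exact L.inv_mem ha
        algebraMap_mem' := fun r => by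
          change ρ (r : Ω) ∈ L
          exact L.algebraMap_mem ⟨ρ (r : Ω), map_mem_Knr hρ r.2⟩ }
    have h3 : L ≤ M := by
      rw [IntermediateField.adjoin_simple_le_iff]
      exact h1
    exact h3 hx
  have hinv1 : ∀ y, σ (σ⁻¹ y) = y := fun y => by rw [← AlgEquiv.mul_apply, mul_inv_cancel, AlgEquiv.one_apply]
  have hinv2 : ∀ y, σ⁻¹ (σ y) = y := fun y => by rw [← AlgEquiv.mul_apply, inv_mul_cancel, AlgEquiv.one_apply]
  let sK : L ≃+* L :=
    { toFun := fun x => ⟨σ x, hstabL σ hst x x.2⟩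
      invFun := fun x => ⟨σ⁻¹ x, hstabL σ⁻¹ hst.symm x x.2⟩
      left_inv := fun x => Subtype.ext (hinv2 x)
      right_inv := fun x => Subtype.ext (hinv1 x)
      map_mul' := fun x y => Subtype.ext (map_mul σ (x : Ω) y)
      map_add' := fun x y => Subtype.ext (map_add σ (x : Ω) y) }
  let V : ValuationSubring L := W.comap (algebraMap L Ω)
  obtain ⟨hV1, hV2⟩ := exists_ext (Rnr K W) (Knr K W) Ω hsh hlo L
  let s : V ≃+* V :=
    { toFun := fun x => ⟨sK x, (hst.1 _).2 x.2⟩
      invFun := fun x => ⟨sK.symm x, (hst.symm.1 _).2 x.2⟩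
      left_inv := fun x => Subtype.ext (sK.symm_apply_apply x)
      right_inv := fun x => Subtype.ext (sK.apply_symm_apply x)
      map_mul' := fun x y => Subtype.ext (map_mul sK (x : L) y)
      map_add' := fun x y => Subtype.ext (map_add sK (x : L) y) }
  let φ : R →+* V := RingHom.codRestrict ((algebraMap K L).comp (algebraMap R K)) V.toSubring (fun r => hW.1 r)
  refine ⟨L, inferInstance, inferInstance, inferInstance, hKLΩ, ?_, V, inferInstance, inferInstance, hV1,
    inferInstance, inferInstance, sK, s, hV2, fun x => rfl, fun r => rfl, fun r => ?_, fun τ => ⟨?_, ?_⟩, ?_, ?_⟩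
  · exact ⟨IsSepClosure.sep_closed K, Algebra.isSeparable_tower_top_of_isSeparable (Knr K W) L Ω⟩
  · exact mem_maximalIdeal_comap _ (hσ _ r.2).2
  · apply hL₀U
    change τ.restrictScalars K ∈ L₀.fixingSubgroup
    rw [IntermediateField.mem_fixingSubgroup_iff]
    intro x hx
    exact τ.commutes ⟨x, hL₀L x hx⟩
  · rw [isInertia_iff hW]
    intro x hx
    exact τ.commutes (algebraMap (Knr K W) L ⟨x, hx⟩)
  · intro l hl
    have h1 : IsUnit (l : R) := by
      by_contra h
      apply hl
      have h1 := (IsLocalRing.residue_eq_zero_iff (l : R)).2 h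
      rwa [map_natCast] at h1
    have h2 := ((h1.map φ).map (residue V)).ne_zero
    rwa [map_natCast, map_natCast] at h2
  · intro l hl
    have h1 : (l : R) ∈ maximalIdeal R := by
      rw [← residue_eq_zero_iff, map_natCast, hl]
    have h2 := hW.2 _ h1
    have h3 : φ l ∈ maximalIdeal V := mem_maximalIdeal_comap _ h2
    rw [← residue_eq_zero_iff, map_natCast, map_natCast] at h3
    exact h3

end main

end K222.Strict
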