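import Groth.Agent.SGA7.K222.Main1
import Groth.Agent.SGA7.K222.Strict
import Groth.Agent.S4050

/-!
# Integrality and independence of `l`
-/

set_option autoImplicit false
universe u

open CategoryTheory AlgebraicGeometry Polynomial MonObj

namespace K222.Main2

open TateGrp

/-- **Integrality and independence of `l`** of the characteristic polynomial of an automorphism inducing the `Q`-power
map on the residue field. -/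
theorem main2 (R K Ω : Type u) [CommRing R] [IsDomain R] [IsDiscreteValuationRing R]
    [Field K] [Algebra R K] [IsFractionRing R K] [Field Ω] [Algebra K Ω] [IsSepClosure K Ω]
    (W : ValuationSubring Ω) (hW : SGA7.LiesOver K R W)
    (A : Over (Spec (CommRingCat.of K))) [GrpObj A] [IsCommMonObj A] [IsProper A.hom] [GeometricallyIntegral A.hom]
    (l₁ l₂ : ℕ) [Fact l₁.Prime] [Fact l₂.Prime]
    (h₁ : (l₁ : IsLocalRing.ResidueField R) ≠ 0) (h₂ : (l₂ : IsLocalRing.ResidueField R) ≠ 0)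
    [Module.Free ℤ_[l₁] (AbDual.TateMod A l₁ (SGA7.pt Ω))] [Module.Finite ℤ_[l₁] (AbDual.TateMod A l₁ (SGA7.pt Ω))]
    [Module.Free ℤ_[l₂] (AbDual.TateMod A l₂ (SGA7.pt Ω))] [Module.Finite ℤ_[l₂] (AbDual.TateMod A l₂ (SGA7.pt Ω))]
    (ρ₁ : (Ω ≃ₐ[K] Ω) → Module.End ℤ_[l₁] (AbDual.TateMod A l₁ (SGA7.pt Ω)))
    (hρ₁ : ∀ (τ : Ω ≃ₐ[K] Ω) (z : AbDual.TateMod A l₁ (SGA7.pt Ω)) (m : ℕ),
      (AbDual.TateMod.component A l₁ (SGA7.pt Ω) m (ρ₁ τ z)).toMul =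
        SGA7.galAct τ (AbDual.TateMod.component A l₁ (SGA7.pt Ω) m z).toMul)
    (ρ₂ : (Ω ≃ₐ[K] Ω) → Module.End ℤ_[l₂] (AbDual.TateMod A l₂ (SGA7.pt Ω)))
    (hρ₂ : ∀ (τ : Ω ≃ₐ[K] Ω) (z : AbDual.TateMod A l₂ (SGA7.pt Ω)) (m : ℕ),
      (AbDual.TateMod.component A l₂ (SGA7.pt Ω) m (ρ₂ τ z)).toMul =
        SGA7.galAct τ (AbDual.TateMod.component A l₂ (SGA7.pt Ω) m z).toMul)
    (Q : ℕ) (hQ : Q = 1 ∨ ∃ p a : ℕ, p.Prime ∧ (p : IsLocalRing.ResidueField R) = 0 ∧ Q = p ^ a)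
    (σ : Ω ≃ₐ[K] Ω) (hσ : ∀ y : Ω, y ∈ W → σ y ∈ W ∧ W.valuation (σ y - y ^ Q) < 1) :
    ∃ P : Polynomial ℤ, (ρ₁ σ).charpoly = P.map (Int.castRingHom ℤ_[l₁]) ∧
      (ρ₂ σ).charpoly = P.map (Int.castRingHom ℤ_[l₂]) := by
  obtain ⟨π₁, hπ₁⟩ := Groth.Agent.S4050.result R K Ω W hW l₁ Fact.out h₁ A
  obtain ⟨π₂, hπ₂⟩ := Groth.Agent.S4050.result R K Ω W hW l₂ Fact.out h₂ A
  have hQ0 : Q ≠ 0 := by
    rcases hQ with rfl | ⟨p, a, hp, -, rfl⟩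
    · exact one_ne_zero
    · exact pow_ne_zero _ hp.ne_zero
  obtain ⟨K₁, _, _, _, _, _, R₁, _, _, _, _, _, sK, s, hsh, hσ', hsK, hs, hτ, hl, hp⟩ :=
    Strict.exists_field R K Ω W hW σ hQ0 hσ (π₁ ⊓ π₂)
  have hQ' : Q = 1 ∨ ∃ p a : ℕ, p.Prime ∧ (p : IsLocalRing.ResidueField R₁) = 0 ∧ Q = p ^ a := by
    rcases hQ with h | ⟨p, a, h3, h4, h5⟩
    · exact Or.inl h
    · exact Or.inr ⟨p, a, h3, hp _ h4, h5⟩
  have lev₁ : ∀ (ν : ℕ) (σ τ : Ω ≃ₐ[K₁] Ω) (x : SGA7.Pts Ω A), x ^ (l₁ ^ ν) = 1 →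
      SGA7.dev (σ.restrictScalars K) (SGA7.dev (τ.restrictScalars K) x) = 1 := fun ν σ τ x hx =>
    hπ₁ ν _ _ (hτ σ).1.1 (hτ τ).1.1 (hτ σ).2 (hτ τ).2 x hx
  have lev₂ : ∀ (ν : ℕ) (σ τ : Ω ≃ₐ[K₁] Ω) (x : SGA7.Pts Ω A), x ^ (l₂ ^ ν) = 1 →
      SGA7.dev (σ.restrictScalars K) (SGA7.dev (τ.restrictScalars K) x) = 1 := fun ν σ τ x hx =>
    hπ₂ ν _ _ (hτ σ).1.2 (hτ τ).1.2 (hτ σ).2 (hτ τ).2 x hx
  obtain ⟨P, hP⟩ := Main1.main1 hsh sK s σ hσ' hsK Q hQ' hs A l₁ Fact.out (hl _ h₁) lev₁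
  exact ⟨P, hP l₁ (hl _ h₁) lev₁ ρ₁ hρ₁, hP l₂ (hl _ h₂) lev₂ ρ₂ hρ₂⟩

end K222.Main2
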