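import Mathlib.LinearAlgebra.Charpoly.BaseChange
import Mathlib.LinearAlgebra.Charpoly.ToMatrix
import Mathlib.LinearAlgebra.Determinant
import Mathlib.LinearAlgebra.FreeModule.PID
import Mathlib.LinearAlgebra.Dimension.Localization

/-!
# Characteristic polynomials of endomorphisms of lattices with a nilpotent operator of square zero

* `charpoly_mul`: multiplicativity of the characteristic polynomial in short exact sequences of free modules;
* `charpoly_eq_of_injective`: two endomorphisms of free modules of the same rank intertwined by an injective map have the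
  same characteristic polynomial;
* `main`: `T` a lattice, `N` an endomorphism with range contained in `T₀ ⊆ T₁ = ker N`, `σ N = Q N σ`: the
  characteristic polynomial of `σ` from the ones on `T₀` and `T₁ / T₀`.
-/

set_option autoImplicit false

universe u v

open Polynomial

namespace K222.CharLin

section

variable {R : Type u} [CommRing R]

/-- evaluation of the characteristic polynomial -/
lemma eval_charpoly' {V : Type v} [AddCommGroup V] [Module R V] [Module.Free R V] [Module.Finite R V]
    (f : Module.End R V) (t : R) : f.charpoly.eval t = LinearMap.det (algebraMap R (Module.End R V) t - f) :=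
  LinearMap.eval_charpoly f t

variable [IsDomain R] [Infinite R]

lemma ext_eval {p q : R[X]} (h : ∀ t, p.eval t = q.eval t) : p = q := Polynomial.funext h

/-- the characteristic polynomial and an invariant submodule -/
theorem charpoly_mul {V : Type v} [AddCommGroup V] [Module R V] [Module.Free R V] [Module.Finite R V]
    (W : Submodule R V) [Module.Free R W] [Module.Finite R W] [Module.Free R (V ⧸ W)]
    (f : Module.End R V) (hf : W ≤ W.comap f) :
    f.charpoly = (f.restrict hf : Module.End R W).charpoly * (W.mapQ W f hf : Module.End R (V ⧸ W)).charpoly := by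
  refine ext_eval fun t => ?_
  rw [eval_mul, eval_charpoly', eval_charpoly', eval_charpoly']
  have h1 : W ≤ W.comap (algebraMap R (Module.End R V) t - f) := by
    intro x hx
    simp only [Submodule.mem_comap, LinearMap.sub_apply, Module.algebraMap_end_apply]
    exact W.sub_mem (W.smul_mem _ hx) (hf hx)
  rw [LinearMap.det_eq_det_mul_det W _ h1]
  congr 2
  apply LinearMap.ext
  intro x
  obtain ⟨x, rfl⟩ := Submodule.mkQ_surjective _ x
  rfl

/-- short exact sequences -/
theorem charpoly_exact {V₁ V V₂ : Type v} [AddCommGroup V₁] [Module R V₁] [Module.Free R V₁] [Module.Finite R V₁]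
    [AddCommGroup V] [Module R V] [Module.Free R V] [Module.Finite R V]
    [AddCommGroup V₂] [Module R V₂] [Module.Free R V₂] [Module.Finite R V₂]
    (i : V₁ →ₗ[R] V) (q : V →ₗ[R] V₂) (hi : Function.Injective i) (hq : Function.Surjective q)
    (hiq : LinearMap.range i = LinearMap.ker q)
    (f₁ : Module.End R V₁) (f : Module.End R V) (f₂ : Module.End R V₂)
    (h₁ : ∀ x, i (f₁ x) = f (i x)) (h₂ : ∀ x, q (f x) = f₂ (q x)) :
    f.charpoly = f₁.charpoly * f₂.charpoly := by
  let W := LinearMap.ker q
  let e₁ : V₁ ≃ₗ[R] W := (LinearEquiv.ofInjective i hi).trans (LinearEquiv.ofEq _ _ hiq)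
  let e₂ : (V ⧸ W) ≃ₗ[R] V₂ := q.quotKerEquivOfSurjective hq
  have : Module.Free R W := Module.Free.of_equiv e₁
  have : Module.Finite R W := Module.Finite.equiv e₁
  have : Module.Free R (V ⧸ W) := Module.Free.of_equiv e₂.symm
  have hf : W ≤ W.comap f := by
    intro x hx
    change q (f x) = 0
    rw [h₂, show q x = 0 from hx, map_zero]
  rw [charpoly_mul W f hf]
  congr 1
  · have h3 : (f.restrict hf : Module.End R W) = e₁.conj f₁ := by
      ext x
      obtain ⟨y, rfl⟩ := e₁.surjective x
      simp only [LinearEquiv.conj_apply_apply, LinearEquiv.symm_apply_apply]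
      change f (i y) = i (f₁ y)
      rw [h₁]
    rw [h3, LinearEquiv.charpoly_conj]
  · have h3 : (W.mapQ W f hf : Module.End R (V ⧸ W)) = e₂.symm.conj f₂ := by
      apply LinearMap.ext
      intro x
      obtain ⟨x, rfl⟩ := Submodule.mkQ_surjective _ x
      rw [LinearEquiv.conj_apply_apply]
      apply e₂.injective
      simp only [LinearEquiv.symm_symm, LinearEquiv.apply_symm_apply]
      change q (f x) = f₂ (q x)
      rw [h₂]
    rw [h3, LinearEquiv.charpoly_conj]

omit [IsDomain R] [Infinite R] in
/-- intertwined endomorphisms of modules of the same rank over a field -/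
theorem charpoly_eq_of_bijective {V₁ V : Type v} [AddCommGroup V₁] [Module R V₁] [Module.Free R V₁] [Module.Finite R V₁]
    [AddCommGroup V] [Module R V] [Module.Free R V] [Module.Finite R V] (i : V₁ →ₗ[R] V) (hi : Function.Bijective i)
    (f₁ : Module.End R V₁) (f : Module.End R V) (h₁ : ∀ x, i (f₁ x) = f (i x)) : f₁.charpoly = f.charpoly := by
  let e : V₁ ≃ₗ[R] V := LinearEquiv.ofBijective i hi
  have h3 : f = e.conj f₁ := by
    ext x
    obtain ⟨y, rfl⟩ := e.surjective x
    simp only [LinearEquiv.conj_apply_apply, LinearEquiv.symm_apply_apply]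
    exact (h₁ y).symm
  rw [h3, LinearEquiv.charpoly_conj]

omit [Infinite R] in
/-- intertwined endomorphisms of free modules of the same rank -/
theorem charpoly_eq_of_injective {V₁ V : Type v} [AddCommGroup V₁] [Module R V₁] [Module.Free R V₁] [Module.Finite R V₁]
    [AddCommGroup V] [Module R V] [Module.Free R V] [Module.Finite R V] (i : V₁ →ₗ[R] V) (hi : Function.Injective i)
    (hr : Module.finrank R V₁ = Module.finrank R V)
    (f₁ : Module.End R V₁) (f : Module.End R V) (h₁ : ∀ x, i (f₁ x) = f (i x)) : f₁.charpoly = f.charpoly := by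
  let b₁ := Module.Free.chooseBasis R V₁
  have hcard : Fintype.card (Module.Free.ChooseBasisIndex R V₁) = Module.finrank R V := by
    rw [← hr, Module.finrank_eq_card_chooseBasisIndex]
  let b : Module.Basis (Module.Free.ChooseBasisIndex R V₁) R V :=
    (Module.finBasis R V).reindex (Fintype.equivFinOfCardEq hcard).symm
  let P := LinearMap.toMatrix b₁ b i
  have hP : P.det ≠ 0 := by
    intro h0
    obtain ⟨v, hv, hv'⟩ := Matrix.exists_mulVec_eq_zero_iff.2 h0
    apply hv
    have h2 : i (b₁.equivFun.symm v) = 0 := by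
      apply b.equivFun.injective
      rw [map_zero]
      have h3 := LinearMap.toMatrix_mulVec_repr b₁ b i (b₁.equivFun.symm v)
      have h4 : (b₁.repr (b₁.equivFun.symm v) : _ → R) = v := b₁.equivFun.apply_symm_apply v
      rw [h4] at h3
      have h3' : (b.repr (i (b₁.equivFun.symm v)) : _ → R) = 0 := by rw [← h3]; exact hv'
      exact h3'
    have h5 := hi (h2.trans (map_zero i).symm)
    rwa [EmbeddingLike.map_eq_zero_iff] at h5
  rw [← LinearMap.charpoly_toMatrix f₁ b₁, ← LinearMap.charpoly_toMatrix f b]
  have hcomm : P * LinearMap.toMatrix b₁ b₁ f₁ = LinearMap.toMatrix b b f * P := by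
    rw [← LinearMap.toMatrix_comp b₁ b₁ b, ← LinearMap.toMatrix_comp b₁ b b]
    congr 1
    ext x
    exact h₁ x
  -- pass to the polynomial ring
  have hdet : (Matrix.map P C).det ≠ 0 := by
    have h6 : (Matrix.map P C).det = C P.det := by
      rw [RingHom.map_det]
      rfl
    rw [h6]
    exact fun h7 => hP (C_eq_zero.1 h7)
  have h8 : Matrix.map P C * Matrix.charmatrix (LinearMap.toMatrix b₁ b₁ f₁) =
      Matrix.charmatrix (LinearMap.toMatrix b b f) * Matrix.map P C := by
    rw [Matrix.charmatrix, Matrix.charmatrix, mul_sub, sub_mul]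
    congr 1
    · exact (Matrix.scalar_commute (X : R[X]) (fun r => mul_comm _ _) _).eq.symm
    · rw [RingHom.mapMatrix_apply, RingHom.mapMatrix_apply, ← Matrix.map_mul, ← Matrix.map_mul, hcomm]
  have h9 := congrArg Matrix.det h8
  rw [Matrix.det_mul, Matrix.det_mul, mul_comm] at h9
  exact mul_right_cancel₀ hdet h9

omit [IsDomain R] [Infinite R] in
/-- scaling an endomorphism -/
theorem charpoly_smul_eval {V : Type v} [AddCommGroup V] [Module R V] [Module.Free R V] [Module.Finite R V]
    (f : Module.End R V) (Q t : R) : (Q • f).charpoly.eval (Q * t) = Q ^ Module.finrank R V * f.charpoly.eval t := by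
  rw [eval_charpoly', eval_charpoly', ← LinearMap.det_smul]
  congr 1
  ext x
  simp only [LinearMap.sub_apply, Module.algebraMap_end_apply, LinearMap.smul_apply, smul_sub, mul_smul]

/-- cancelling a scalar -/
theorem charpoly_of_smul' {V : Type v} {W : Type*} [AddCommGroup V] [Module R V] [Module.Free R V] [Module.Finite R V]
    [AddCommGroup W] [Module R W] [Module.Free R W] [Module.Finite R W]
    (f : Module.End R V) (g : Module.End R W) (Q : R) (hQ : Q ≠ 0) (h : (Q • f).charpoly = (Q • g).charpoly) :
    f.charpoly = g.charpoly := by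
  have hr : Module.finrank R V = Module.finrank R W := by
    have h1 := congrArg natDegree h
    rwa [LinearMap.charpoly_natDegree, LinearMap.charpoly_natDegree] at h1
  refine ext_eval fun t => ?_
  have h2 := charpoly_smul_eval f Q t
  rw [h, charpoly_smul_eval g Q t, hr] at h2
  exact mul_left_cancel₀ (pow_ne_zero _ hQ) h2.symm

end

section

variable {R : Type u} [CommRing R] [IsDomain R] [Infinite R] [IsPrincipalIdealRing R]

/-- **Characteristic polynomial of `σ`** with `σ N = Q N σ`. -/
theorem main {T T₁ T₀ T₂ : Type v} [AddCommGroup T] [Module R T] [Module.Free R T] [Module.Finite R T]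
    [AddCommGroup T₁] [Module R T₁] [Module.Free R T₁] [Module.Finite R T₁]
    [AddCommGroup T₀] [Module R T₀] [Module.Free R T₀] [Module.Finite R T₀]
    [AddCommGroup T₂] [Module R T₂] [Module.Free R T₂] [Module.Finite R T₂]
    (N σ : Module.End R T) (Q : R) (hQ : Q ≠ 0) (hσN : ∀ x, σ (N x) = Q • N (σ x))
    (κ : T₁ →ₗ[R] T) (hκ : Function.Injective κ) (hκN : LinearMap.range κ = LinearMap.ker N)
    (i : T₀ →ₗ[R] T₁) (hi : Function.Injective i) (q : T₁ →ₗ[R] T₂) (hq : Function.Surjective q)
    (hiq : LinearMap.range i = LinearMap.ker q)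
    (u₁ : Module.End R T₁) (u₀ : Module.End R T₀) (u₂ : Module.End R T₂) (h1 : ∀ x, κ (u₁ x) = σ (κ x))
    (h0 : ∀ x, i (u₀ x) = u₁ (i x)) (h2 : ∀ x, q (u₁ x) = u₂ (q x))
    (hN : ∀ x, ∃ y, κ (i y) = N x) (hrank : Module.finrank R T₀ + Module.finrank R T₁ = Module.finrank R T)
    {r : ℕ} (M : Matrix (Fin r) (Fin r) R) (hM : u₀.charpoly = (Q • M).charpoly) :
    σ.charpoly = M.charpoly * (Q • M).charpoly * u₂.charpoly := by
  let W := LinearMap.ker N
  let e : (T ⧸ W) ≃ₗ[R] LinearMap.range N := N.quotKerEquivRange
  have : Module.Free R (T ⧸ W) := Module.Free.of_equiv e.symm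
  have hf : W ≤ W.comap σ := by
    intro x hx
    change N (σ x) = 0
    have h3 := hσN x
    rw [show N x = 0 from hx, map_zero] at h3
    exact (smul_eq_zero.1 h3.symm).resolve_left hQ
  -- the restriction to the kernel
  have hW : (σ.restrict hf : Module.End R W).charpoly = u₀.charpoly * u₂.charpoly := by
    rw [← charpoly_exact i q hi hq hiq u₀ u₁ u₂ h0 h2]
    let e₁ : T₁ ≃ₗ[R] W := (LinearEquiv.ofInjective κ hκ).trans (LinearEquiv.ofEq _ _ hκN)
    refine (charpoly_eq_of_bijective e₁.toLinearMap e₁.bijective u₁ _ fun x => ?_).symm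
    apply Subtype.ext
    exact h1 x
  -- the quotient
  have hcomp : ∀ x : LinearMap.range N, σ (x : T) ∈ LinearMap.range N := by
    rintro ⟨_, y, rfl⟩
    exact ⟨Q • σ y, by rw [map_smul, ← hσN]⟩
  let ψ : Module.End R (LinearMap.range N) := σ.restrict (fun x hx => hcomp ⟨x, hx⟩)
  let τ : Module.End R (LinearMap.range N) := e.conj (W.mapQ W σ hf)
  have hψ : ψ = Q • τ := by
    ext ⟨_, x, rfl⟩
    have h3 : (⟨N x, LinearMap.mem_range_self N x⟩ : LinearMap.range N) = e (W.mkQ x) := rfl
    change σ (N x) = ((Q • τ) (⟨N x, LinearMap.mem_range_self N x⟩ : LinearMap.range N) : T)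
    rw [h3, LinearMap.smul_apply, LinearEquiv.conj_apply_apply, LinearEquiv.symm_apply_apply]
    change σ (N x) = Q • N (σ x)
    exact hσN x
  have hfin : Module.finrank R (LinearMap.range N) = Module.finrank R T₀ := by
    have h3 := Submodule.finrank_quotient_add_finrank W
    rw [e.finrank_eq] at h3
    have h4 : Module.finrank R W = Module.finrank R T₁ := by
      rw [← LinearMap.finrank_range_of_inj hκ, hκN]
    omega
  -- the comparison with `T₀`
  have hinj : Function.Injective (κ ∘ₗ i) := hκ.comp hi
  let e₀ : T₀ ≃ₗ[R] LinearMap.range (κ ∘ₗ i) := LinearEquiv.ofInjective _ hinj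
  let j : LinearMap.range N →ₗ[R] T₀ := e₀.symm.toLinearMap ∘ₗ Submodule.inclusion (by
    rintro _ ⟨x, rfl⟩
    obtain ⟨y, hy⟩ := hN x
    exact ⟨y, hy⟩)
  have hj : ∀ x : LinearMap.range N, κ (i (j x)) = x := by
    intro x
    have h3 : (e₀ (j x) : T) = x := by
      change ((e₀ (e₀.symm _) : LinearMap.range (κ ∘ₗ i)) : T) = x
      rw [LinearEquiv.apply_symm_apply]
      rfl
    exact h3
  have hjinj : Function.Injective j := by
    intro x y hxy
    apply Subtype.ext
    rw [← hj x, ← hj y, hxy]
  have hψ0 : ψ.charpoly = u₀.charpoly := by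
    refine charpoly_eq_of_injective j hjinj hfin ψ u₀ fun x => ?_
    apply hinj
    change κ (i (j (ψ x))) = κ (i (u₀ (j x)))
    rw [hj, h0, h1, hj]
    rfl
  have hτ : τ.charpoly = M.charpoly := by
    have h3 : (Q • τ).charpoly = (Q • (Matrix.toLin' M : Module.End R (Fin r → R))).charpoly := by
      rw [← hψ, hψ0, hM]
      rw [← LinearMap.charpoly_toMatrix _ (Pi.basisFun R (Fin r))]
      rw [map_smul, LinearMap.toMatrix_eq_toMatrix', LinearMap.toMatrix'_toLin']
    have h4 := charpoly_of_smul' τ (Matrix.toLin' M : Module.End R (Fin r → R)) Q hQ h3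
    rw [h4, ← LinearMap.charpoly_toMatrix _ (Pi.basisFun R (Fin r)), LinearMap.toMatrix_eq_toMatrix',
      LinearMap.toMatrix'_toLin']
  rw [charpoly_mul W σ hf, hW, hM]
  have h6 : (W.mapQ W σ hf : Module.End R (T ⧸ W)).charpoly = M.charpoly := by
    rw [← hτ, LinearEquiv.charpoly_conj]
  rw [h6]
  ring

end

end K222.CharLin
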