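import Groth.Agent.SGA7.K222.Semi
import Groth.Agent.Sga7.H729.TorsionSec

/-!
# Specialisation of torsion sections

`R` strictly henselian local, `t` a geometric point over the closed point: the specialisation map `Semi.sp t` on
sections of a group scheme is bijective on `n`-torsion when the `n`-th power map is étale.
-/

set_option autoImplicit false
universe u

open CategoryTheory MonoidalCategory CartesianMonoidalCategory MonObj AlgebraicGeometry Limits

namespace K222.BpFacts

open Groth.Agent.Sga3B.BcPts Semi TorusTate Groth.Agent.Sga7.H729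

variable {R : Type u} [CommRing R] [IsLocalRing R] {F : Type u} [Field F]
  (t : Spec (CommRingCat.of F) ⟶ Spec (CommRingCat.of R)) (ht : t (IsLocalRing.closedPoint F) = IsLocalRing.closedPoint R)
  {G : Over (Spec (CommRingCat.of R))} [GrpObj G] {n : ℕ}

/-- the point of `Spec R` -/
noncomputable def spt [Algebra R F] (h : t = Spec.map (CommRingCat.ofHom (algebraMap R F))) :
    Groth.Agent.Sga67.TorsionLift.sp R F ⟶ (Over.map t).obj (E F) :=
  Over.homMk (𝟙 _) (by
    change 𝟙 _ ≫ 𝟙 _ ≫ t = Spec.map _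
    rw [Category.id_comp, Category.id_comp, h])

include ht in
theorem isLocalHom_of [Algebra R F] (h : t = Spec.map (CommRingCat.ofHom (algebraMap R F))) :
    IsLocalHom (algebraMap R F) := by
  rw [IsLocalRing.isLocalHom_iff_comap_closedPoint]
  rw [h] at ht
  exact ht

theorem exists_algebra : ∃ (_ : Algebra R F), t = Spec.map (CommRingCat.ofHom (algebraMap R F)) := by
  obtain ⟨g, hg⟩ := Spec.map_surjective t
  exact ⟨g.hom.toAlgebra, hg.symm⟩

include ht in
theorem sp_inj [Etale (𝟙 G ^ n).left] (x : 𝟙_ (Over (Spec (CommRingCat.of R))) ⟶ G) (hx : x ^ n = 1)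
    (h : Semi.sp t x = 1) : x = 1 := by
  obtain ⟨_, h1⟩ := exists_algebra t
  have := isLocalHom_of t ht h1
  refine TorsionSec.sec_ext_of_pow_eq_one (T := F) x 1 hx (one_pow n) ?_
  have h2 : toUnit (Groth.Agent.Sga67.TorsionLift.sp R F) = spt t h1 ≫ (Over.homMk t (Category.comp_id _) :
    (Over.map t).obj (E F) ⟶ 𝟙_ (Over (Spec (CommRingCat.of R)))) := toUnit_unique _ _
  have h3 : ((Over.homMk t (Category.comp_id _) : (Over.map t).obj (E F) ⟶ 𝟙_ (Over (Spec (CommRingCat.of R)))) ≫ x) =
      1 := (bcMulEquiv t (E F) G).injective (h.trans (map_one _).symm)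
  rw [h2, Category.assoc, h3, MonObj.comp_one, MonObj.comp_one]

include ht in
theorem sp_surj (hR : EtCoh.IsStrictlyHenselianLocalRing R) [Etale (𝟙 G ^ n).left] (y : E F ⟶ Red.bc t G)
    (hy : y ^ n = 1) : ∃ x : 𝟙_ (Over (Spec (CommRingCat.of R))) ⟶ G, x ^ n = 1 ∧ Semi.sp t x = y := by
  obtain ⟨_, h1⟩ := exists_algebra t
  have := isLocalHom_of t ht h1
  obtain ⟨a, ha, ha2⟩ := TorsionSec.exists_sec_of_pow_eq_one hR (T := F) (G := G) (n := n)
    (spt t h1 ≫ (bcMulEquiv t (E F) G).symm y) (by
      rw [← MonObj.comp_pow, ← map_pow, hy, map_one, MonObj.comp_one])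
  refine ⟨a, ha, ?_⟩
  apply bc_ext
  rw [sp_fst, ← bc_symm_left]
  have h2 := congrArg (fun f => f.left) ha2
  change (toUnit (Groth.Agent.Sga67.TorsionLift.sp R F)).left ≫ a.left =
    𝟙 _ ≫ ((bcMulEquiv t (E F) G).symm y).left at h2
  rw [Category.id_comp] at h2
  rw [← h2]
  have h3 : (toUnit (Groth.Agent.Sga67.TorsionLift.sp R F)).left = t := by
    rw [h1]
    rfl
  rw [h3]

end K222.BpFacts
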