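import Groth.Agent.SGA7.K222.Semi
import Groth.Agent.Sga7.H516.Neutral

/-!
# Semilinear endomorphisms and the identity component
-/

set_option autoImplicit false
universe u

open CategoryTheory MonoidalCategory CartesianMonoidalCategory MonObj AlgebraicGeometry Limits

namespace K222.NeutSemi

open Groth.Agent.Sga3.H778.NeutralPts Groth.Agent.Sga3.H778.NeutralOpen Semi

variable {S : Scheme.{u}} {s' : S ⟶ S} {N : Over S} [GrpObj N] (φ : (Over.map s').obj N ⟶ N) (hφ : SL φ)

include hφ in
theorem push_one (Y : Over S) : push φ (1 : Y ⟶ N) = 1 := by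
  have h2 := hφ Y 1 1
  have h3 : (1 * 1 : Y ⟶ N) = 1 := _root_.mul_one _
  rw [h3] at h2
  exact mul_eq_left.mp h2.symm

include hφ in
theorem unit_comp : unitSec N ≫ φ.left = s' ≫ unitSec N := by
  have h1 := push_one φ hφ (𝟙_ (Over S))
  have h2 := congrArg (fun f => f.left) h1
  have h3 : (1 : (Over.map s').obj (𝟙_ (Over S)) ⟶ N).left = s' ≫ unitSec N := by
    rw [Hom.one_def, Over.comp_left]
    change (toUnit ((Over.map s').obj (𝟙_ (Over S)))).left ≫ _ = _
    have h4 : (toUnit ((Over.map s').obj (𝟙_ (Over S)))).left = 𝟙 _ ≫ s' := rfl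
    rw [h4, Category.id_comp]
    rfl
  have h5 : (1 : 𝟙_ (Over S) ⟶ N).left = unitSec N := by
    rw [← MonObj.one_eq_one]
    rfl
  rw [push_left, h3, h5] at h2
  exact h2

variable (h0 : IsOpen (SGA3x.neutralSet N)) [GrpObj (opn N (neutral N h0))] [IsMonHom (opnι N (neutral N h0))]

include hφ in
/-- The semilinear endomorphism restricts to the identity component. -/
theorem exists_phi0 : ∃ φ0 : (Over.map s').obj (opn N (neutral N h0)) ⟶ opn N (neutral N h0),
    φ0 ≫ opnι N (neutral N h0) = (Over.map s').map (opnι N (neutral N h0)) ≫ φ ∧ SL φ0 := by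
  obtain ⟨φ0, h⟩ := exists_lift (neutral N h0) (push φ (opnι N (neutral N h0))) (fun t => by
    have h1 : (opnι N (neutral N h0)).left t ∈ SGA3x.neutralSet N := t.2
    have hw : φ.left ≫ N.hom = N.hom ≫ s' := Over.w φ
    exact Groth.Agent.Sga7.H516.Neutral.map_mem_neutralSet (N := N) s' φ.left hw (unit_comp φ hφ) _ h1)
  refine ⟨φ0, h, fun Y a b => ?_⟩
  have hm : Mono (opnι N (neutral N h0)) := Over.mono_of_mono_left _
  have h3 : ∀ {Y : Over S} (c : Y ⟶ opn N (neutral N h0)), push φ0 c ≫ opnι N (neutral N h0) =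
      push φ (c ≫ opnι N (neutral N h0)) := by
    intro Y c
    rw [push, push, Category.assoc, h, push, Functor.map_comp, Category.assoc]
  rw [← cancel_mono (opnι N (neutral N h0)), h3, MonObj.mul_comp, hφ, MonObj.mul_comp, h3, h3]

end K222.NeutSemi
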