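import Groth.Agent.SGA7.K222.ThetaA
import Groth.Agent.Sga7.H729.Dict

/-!
# Geometric points over two bases

`eps`: the geometric points of the generic fibre of `N` over `K` and of `A` over `K₀`; compatibility with the Galois
action and with sections.
-/

set_option autoImplicit false
set_option linter.unusedSectionVars false
universe u

open CategoryTheory MonoidalCategory CartesianMonoidalCategory MonObj AlgebraicGeometry Limits

namespace K222.Eps

open Groth.Agent.Sga3B.BcPts Semi NerSemi ThetaA Groth.Agent.Sga7.H729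

variable {R K K₀ Ω : Type u} [CommRing R] [Field K] [Algebra R K] [Field K₀] [Algebra K₀ K] [Field Ω] [Algebra K Ω]
  [Algebra K₀ Ω] [IsScalarTower K₀ K Ω]
  {N : Over (Spec (CommRingCat.of R))} [GrpObj N] {A : Over (Spec (CommRingCat.of K₀))} [GrpObj A]
  (e : (SGA7.genFib R K).obj N ≅ Red.bc (spm K₀ K) A) [IsMonHom e.hom]

/-- inverse of `mu` -/
noncomputable def mu' : (Over.map (spm K₀ K)).obj (SGA7.pt Ω) ⟶ (SGA7.pt Ω : Over (Spec (CommRingCat.of K₀))) :=
  Over.homMk (𝟙 _) (by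
    change 𝟙 _ ≫ Spec.map _ = Spec.map _ ≫ Spec.map _
    rw [Category.id_comp, ← Spec.map_comp, ← CommRingCat.ofHom_comp, ← IsScalarTower.algebraMap_eq])

theorem mu_mu' : mu (K := K) (K₀ := K₀) (Ω := Ω) ≫ mu' (K := K) (K₀ := K₀) (Ω := Ω) = 𝟙 _ := by
  ext1
  exact Category.id_comp _

theorem mu'_mu : mu' (K := K) (K₀ := K₀) (Ω := Ω) ≫ mu (K := K) (K₀ := K₀) (Ω := Ω) = 𝟙 _ := by
  ext1
  exact Category.id_comp _

/-- `ptHom` as an isomorphism -/
noncomputable def ptEquiv : ((Over.map (spm K₀ K)).obj (SGA7.pt Ω) ⟶ A) ≃* SGA7.Pts Ω A where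
  toFun x := mu ≫ x
  invFun x := mu' ≫ x
  left_inv x := (Category.assoc _ _ _).symm.trans (by rw [mu'_mu, Category.id_comp])
  right_inv x := (Category.assoc _ _ _).symm.trans (by rw [mu_mu', Category.id_comp])
  map_mul' x y := MonObj.comp_mul _ x y

variable (Ω) in
/-- **the geometric points over the two bases** -/
noncomputable def eps : SGA7.Pts Ω ((SGA7.genFib R K).obj N) ≃* SGA7.Pts Ω A :=
  ((isoPts e (SGA7.pt Ω)).trans (bcMulEquiv (spm K₀ K) (SGA7.pt Ω) A).symm).trans ptEquiv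

theorem eps_left (x : SGA7.Pts Ω ((SGA7.genFib R K).obj N)) :
    (eps Ω e x).left = (x.left ≫ e.hom.left) ≫ pullback.fst A.hom (spm K₀ K) := by
  change 𝟙 _ ≫ ((bcMulEquiv (spm K₀ K) (SGA7.pt Ω) A).symm (x ≫ e.hom)).left = _
  rw [Category.id_comp, bc_symm_left]
  rfl

theorem eps_galAct (τ : Ω ≃ₐ[K] Ω) (x : SGA7.Pts Ω ((SGA7.genFib R K).obj N)) :
    eps Ω e (SGA7.galAct τ x) = SGA7.galAct (τ.restrictScalars K₀) (eps Ω e x) := by
  ext1
  rw [eps_left]
  change (((SGA7.specAut τ).left ≫ x.left) ≫ e.hom.left) ≫ _ = (SGA7.specAut (τ.restrictScalars K₀)).left ≫ (eps Ω e x).left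
  rw [eps_left]
  simp only [Category.assoc]
  rfl

theorem eps_dev (τ : Ω ≃ₐ[K] Ω) (x : SGA7.Pts Ω ((SGA7.genFib R K).obj N)) :
    eps Ω e (SGA7.dev τ x) = SGA7.dev (τ.restrictScalars K₀) (eps Ω e x) := by
  rw [SGA7.dev, SGA7.dev, map_mul, map_inv, eps_galAct]

theorem th_eq (g : 𝟙_ (Over (Spec (CommRingCat.of R))) ⟶ N) : th Ω e g = eps Ω e (Dict.secΩ R K Ω N g) := by
  change mu ≫ (bcMulEquiv (spm K₀ K) (SGA7.pt Ω) A).symm (bcMulEquiv (spm R K) (SGA7.pt Ω) N (gp Ω g) ≫ e.hom) =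
    mu ≫ (bcMulEquiv (spm K₀ K) (SGA7.pt Ω) A).symm (Dict.secΩ R K Ω N g ≫ e.hom)
  congr 3
  apply bc_ext
  rw [bc_fst]
  change (spm K Ω ≫ spm R K) ≫ g.left = (spm K Ω ≫ (Dict.secK R K N g).left) ≫ pullback.fst N.hom (spm R K)
  rw [Category.assoc, Category.assoc]
  congr 1
  have h1 : (Dict.secK R K N g).left ≫ pullback.fst N.hom (spm R K) = (toUnit _ ≫ g : (Over.map (spm R K)).obj (𝟙_ _) ⟶ N).left := by
    rw [← Dict.bcPts_left]
    congr 1
    exact MulEquiv.apply_symm_apply _ _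
  rw [h1]
  have h2 : (toUnit ((Over.map (spm R K)).obj (𝟙_ _)) : _ ⟶ 𝟙_ (Over (Spec (CommRingCat.of R)))).left = 𝟙 _ ≫ spm R K := rfl
  change _ = (toUnit ((Over.map (spm R K)).obj (𝟙_ _))).left ≫ g.left
  rw [h2, Category.id_comp]

end K222.Eps
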