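import Groth.Agent.SGA7.K222.Comm
import Groth.Agent.SGA7.K222.Eps
import Groth.Agent.Sga7.H730.StabOpen

/-!
# Conjugation of inertia and the action on points

* `galAct_conj`: `σ τ σ⁻¹` and `τ ^ Q` have the same action on the `l`-power torsion, under the level two condition.
* `rel`: `σ (τ z - z) = Q (τ (σ z) - σ z)`.
-/

set_option autoImplicit false
universe u

open CategoryTheory MonoidalCategory CartesianMonoidalCategory MonObj AlgebraicGeometry Limits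

namespace K222.Rel

open SGA7 Groth.Agent.Sga7

section pts

variable {K Ω : Type u} [Field K] [Field Ω] [Algebra K Ω] {C : Over (Spec (CommRingCat.of K))}

theorem specAut_mul (σ τ : Ω ≃ₐ[K] Ω) : specAut (σ * τ) = specAut σ ≫ specAut τ := by
  apply Over.OverMorphism.ext
  change Spec.map _ = Spec.map _ ≫ Spec.map _
  rw [← Spec.map_comp, ← CommRingCat.ofHom_comp]
  rfl

theorem specAut_one : specAut (1 : Ω ≃ₐ[K] Ω) = 𝟙 _ := by
  apply Over.OverMorphism.ext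
  change Spec.map (CommRingCat.ofHom (RingHom.id Ω)) = 𝟙 _
  rw [CommRingCat.ofHom_id, Spec.map_id]

theorem galAct_mul (σ τ : Ω ≃ₐ[K] Ω) (x : Pts Ω C) : galAct (σ * τ) x = galAct σ (galAct τ x) := by
  simp only [galAct, specAut_mul, Category.assoc]

theorem galAct_one (x : Pts Ω C) : galAct (1 : Ω ≃ₐ[K] Ω) x = x := by
  simp only [galAct, specAut_one, Category.id_comp]

variable [GrpObj C]

/-- `galAct σ` as a homomorphism -/
noncomputable def galHom (C : Over (Spec (CommRingCat.of K))) [GrpObj C] (σ : Ω ≃ₐ[K] Ω) : Pts Ω C →* Pts Ω C where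
  toFun := galAct σ
  map_one' := MonObj.comp_one _
  map_mul' x y := MonObj.comp_mul _ x y

theorem galHom_apply (σ : Ω ≃ₐ[K] Ω) (x : Pts Ω C) : galHom C σ x = galAct σ x := rfl

theorem galAct_mul' (σ : Ω ≃ₐ[K] Ω) (x y : Pts Ω C) : galAct σ (x * y) = galAct σ x * galAct σ y :=
  map_mul (galHom C σ) x y

theorem galAct_npow (σ : Ω ≃ₐ[K] Ω) (x : Pts Ω C) (n : ℕ) : galAct σ (x ^ n) = (galAct σ x) ^ n :=
  map_pow (galHom C σ) x n

theorem galAct_inv (σ : Ω ≃ₐ[K] Ω) (x : Pts Ω C) : galAct σ x⁻¹ = (galAct σ x)⁻¹ := map_inv (galHom C σ) x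

theorem dev_eq_one_iff (σ : Ω ≃ₐ[K] Ω) (x : Pts Ω C) : dev σ x = 1 ↔ galAct σ x = x := mul_inv_eq_one

variable [IsCommMonObj C]

/-- powers, under the level two condition -/
theorem galAct_pow_eq (s : Ω ≃ₐ[K] Ω) (x : Pts Ω C) (h : dev s (dev s x) = 1) (m : ℕ) :
    galAct (s ^ m) x = dev s x ^ m * x := by
  induction m with
  | zero => rw [pow_zero, galAct_one, pow_zero, _root_.one_mul]
  | succ m ih =>
    have h1 : galAct s (dev s x) = dev s x := (dev_eq_one_iff _ _).mp h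
    have h2 : galAct s x = dev s x * x := by rw [dev, inv_mul_cancel_right]
    rw [pow_succ', galAct_mul, ih, galAct_mul', galAct_npow, h1, h2, pow_succ, _root_.mul_assoc]

theorem dev_pow (s : Ω ≃ₐ[K] Ω) (x : Pts Ω C) (m : ℕ) : dev s x ^ m = dev s (x ^ m) := by
  rw [dev, dev, galAct_npow, mul_pow, inv_pow]

/-- the stabilizer of a point -/
def stab (x : Pts Ω C) : Subgroup (Ω ≃ₐ[K] Ω) where
  carrier := {σ | galAct σ x = x}
  mul_mem' := fun {a b} ha hb => by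
    change galAct (a * b) x = x
    rw [galAct_mul, show galAct b x = x from hb, show galAct a x = x from ha]
  one_mem' := galAct_one x
  inv_mem' := fun {a} ha => by
    change galAct a⁻¹ x = x
    have h1 : galAct (a⁻¹ * a) x = x := by rw [inv_mul_cancel, galAct_one]
    rwa [galAct_mul, show galAct a x = x from ha] at h1

theorem galAct_conj {R : Type u} [CommRing R] [IsDomain R] [IsDiscreteValuationRing R] [Algebra R K]
    [IsFractionRing R K] [Algebra R Ω] [IsScalarTower R K Ω] [IsGalois K Ω] [IsSepClosed Ω]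
    (hR : EtCoh.IsStrictlyHenselianLocalRing R) (l : ℕ) [hl : Fact l.Prime] (hu : IsUnit (l : R))
    (σ : Ω ≃+* Ω) (s : R ≃+* R) (hσ : ∀ r, σ (algebraMap R Ω r) = algebraMap R Ω (s r)) (Q : ℕ)
    (hs : ∀ r, s r - r ^ Q ∈ IsLocalRing.maximalIdeal R) (τ τ' : Ω ≃ₐ[K] Ω) (hτ' : ∀ z, τ' (σ z) = σ (τ z))
    [LocallyOfFiniteType C.hom]
    (hlev : ∀ (ν : ℕ) (σ τ : Ω ≃ₐ[K] Ω) (x : Pts Ω C), x ^ (l ^ ν) = 1 → dev σ (dev τ x) = 1) (m : ℕ) (x : Pts Ω C)
    (hx : x ^ (l ^ m) = 1) : galAct τ' x = dev τ x ^ Q * x := by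
  obtain ⟨d, hd, hd2⟩ := Comm.exists_coprime (K := K) hR l hu σ s hσ Q hs τ τ' hτ' (stab x)
    (H730.StabOpen.isOpen_stab C x _ fun σ h => h)
  set γ := (τ ^ Q)⁻¹ * τ' with hγ
  have h1 : galAct (γ ^ d) x = x := hd2
  rw [galAct_pow_eq γ x (hlev m _ _ x hx), mul_eq_right] at h1
  have h2 : dev γ x ^ (l ^ m) = 1 := by
    rw [dev_pow, hx, dev, inv_one, _root_.mul_one]
    exact map_one (galHom C γ)
  have h3 : dev γ x = 1 := by
    have h4 : orderOf (dev γ x) ∣ Nat.gcd d (l ^ m) :=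
      Nat.dvd_gcd (orderOf_dvd_of_pow_eq_one h1) (orderOf_dvd_of_pow_eq_one h2)
    rw [Nat.Coprime.gcd_eq_one (Nat.Coprime.pow_right m hd), Nat.dvd_one, orderOf_eq_one_iff] at h4
    exact h4
  have h5 : galAct γ x = x := (dev_eq_one_iff _ _).1 h3
  have h6 : τ' = τ ^ Q * γ := by rw [hγ, mul_inv_cancel_left]
  rw [h6, galAct_mul, h5, galAct_pow_eq τ x (hlev m _ _ x hx)]

end pts

section rel

variable {R K K₀ Ω : Type u} [CommRing R] [IsDomain R] [IsDiscreteValuationRing R] [Field K] [Algebra R K]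
  [IsFractionRing R K] [Field K₀] [Algebra K₀ K] [Field Ω] [Algebra K Ω] [Algebra R Ω] [IsScalarTower R K Ω]
  [Algebra K₀ Ω] [IsScalarTower K₀ K Ω] [IsGalois K Ω] [IsSepClosed Ω]
  {N : Over (Spec (CommRingCat.of R))} [GrpObj N] {A : Over (Spec (CommRingCat.of K₀))} [GrpObj A] [IsCommMonObj A]
  [IsCommMonObj ((genFib R K).obj N)] [LocallyOfFiniteType ((genFib R K).obj N).hom]
  (e : (genFib R K).obj N ≅ Red.bc (NerSemi.spm K₀ K) A) [IsMonHom e.hom]

/-- the conjugate -/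
theorem exists_conj (sK : K ≃+* K) (σ : Ω ≃ₐ[K₀] Ω) (hσ : ∀ x, σ (algebraMap K Ω x) = algebraMap K Ω (sK x))
    (τ : Ω ≃ₐ[K] Ω) : ∃ τ' : Ω ≃ₐ[K] Ω, ∀ z, τ' (σ z) = σ (τ z) := by
  have h1 : ∀ x, σ.symm (algebraMap K Ω x) = algebraMap K Ω (sK.symm x) := by
    intro x
    rw [AlgEquiv.symm_apply_eq, hσ, RingEquiv.apply_symm_apply]
  refine ⟨AlgEquiv.ofRingEquiv (f := (σ.symm.toRingEquiv.trans τ.toRingEquiv).trans σ.toRingEquiv) (fun x => ?_),
    fun z => ?_⟩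
  · change σ (τ (σ.symm (algebraMap K Ω x))) = _
    rw [h1, AlgEquiv.commutes, hσ, RingEquiv.apply_symm_apply]
  · change σ (τ (σ.symm (σ z))) = _
    rw [AlgEquiv.symm_apply_apply]

include e in
/-- **The relation.** -/
theorem rel (hR : EtCoh.IsStrictlyHenselianLocalRing R) (l : ℕ) [hl : Fact l.Prime] (hu : IsUnit (l : R))
    (sK : K ≃+* K) (s : R ≃+* R) (σ : Ω ≃ₐ[K₀] Ω) (hσ : ∀ x, σ (algebraMap K Ω x) = algebraMap K Ω (sK x))
    (hsK : ∀ r, sK (algebraMap R K r) = algebraMap R K (s r)) (Q : ℕ)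
    (hs : ∀ r, s r - r ^ Q ∈ IsLocalRing.maximalIdeal R) (τ : Ω ≃ₐ[K] Ω)
    (hlev : ∀ (ν : ℕ) (σ τ : Ω ≃ₐ[K] Ω) (x : Pts Ω ((genFib R K).obj N)), x ^ (l ^ ν) = 1 → dev σ (dev τ x) = 1)
    (m : ℕ) (z : Pts Ω A) (hz : z ^ (l ^ m) = 1) :
    galAct σ (dev (τ.restrictScalars K₀) z) = (dev (τ.restrictScalars K₀) (galAct σ z)) ^ Q := by
  obtain ⟨τ', hτ'⟩ := exists_conj sK σ hσ τ
  have h1 : ∀ y : Pts Ω A, y ^ (l ^ m) = 1 →
      galAct (τ'.restrictScalars K₀) y = dev (τ.restrictScalars K₀) y ^ Q * y := by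
    intro y hy
    obtain ⟨x, rfl⟩ := (Eps.eps Ω e).surjective y
    have hx : x ^ (l ^ m) = 1 := (Eps.eps Ω e).injective (by rw [map_pow, hy, map_one])
    rw [← Eps.eps_galAct, galAct_conj hR l hu σ.toRingEquiv s (fun r => by
      change σ (algebraMap R Ω r) = _
      rw [IsScalarTower.algebraMap_apply R K Ω, hσ, hsK, ← IsScalarTower.algebraMap_apply]) Q hs τ τ' hτ' hlev m x hx,
      map_mul, map_pow, Eps.eps_dev]
  have h2 : σ * τ.restrictScalars K₀ = τ'.restrictScalars K₀ * σ := by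
    ext z
    exact (hτ' z).symm
  have h3 : (galAct σ z) ^ (l ^ m) = 1 := by
    rw [← galAct_npow, hz]
    exact map_one (galHom A σ)
  rw [dev, galAct_mul', ← galAct_mul, h2, galAct_mul, h1 _ h3, galAct_inv, mul_inv_cancel_right]

end rel

end K222.Rel
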