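import Groth.Agent.SGA7.K222.PerL
import Groth.Agent.SGA7.K222.NeutSemi
import Groth.Agent.SGA7.K222.Rel
import Groth.Agent.SGA7.K222.BpFacts

/-!
# The characteristic polynomial at one prime: assembly

The hypotheses of `PerL.charpoly_eq` for the identity component of a Néron model.
-/

set_option autoImplicit false
universe u

open CategoryTheory MonoidalCategory CartesianMonoidalCategory MonObj AlgebraicGeometry AbDual Limits Polynomial

namespace K222.Assemble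

open TateGrp TorusTate Semi NerSemi ThetaA InfPt Groth.Agent.Sga7.H729
  Groth.Agent.Sga3.H778.NeutralPts Groth.Agent.Sga3.H778.NeutralOpen

section aut

/-- the morphism of spectra attached to an automorphism -/
noncomputable abbrev aut {R : Type u} [CommRing R] (s : R ≃+* R) : Spec (CommRingCat.of R) ⟶ Spec (CommRingCat.of R) :=
  Spec.map (CommRingCat.ofHom (s : R →+* R))

theorem aut_symm {R : Type u} [CommRing R] (s : R ≃+* R) : aut s ≫ aut s.symm = 𝟙 _ := by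
  rw [← Spec.map_comp, ← CommRingCat.ofHom_comp, ← Spec.map_id]
  congr 2
  ext x
  exact s.apply_symm_apply x

theorem aut_symm' {R : Type u} [CommRing R] (s : R ≃+* R) : aut s.symm ≫ aut s = 𝟙 _ := by
  rw [← Spec.map_comp, ← CommRingCat.ofHom_comp, ← Spec.map_id]
  congr 2
  ext x
  exact s.symm_apply_apply x

instance {R : Type u} [CommRing R] (s : R ≃+* R) : IsIso (aut s) := ⟨aut s.symm, aut_symm s, aut_symm' s⟩

theorem aut_comm {R K : Type u} [CommRing R] [CommRing K] [Algebra R K] (s : R ≃+* R) (sK : K ≃+* K)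
    (h : ∀ r, sK (algebraMap R K r) = algebraMap R K (s r)) : spm R K ≫ aut s = aut sK ≫ spm R K := by
  rw [← Spec.map_comp, ← Spec.map_comp, ← CommRingCat.ofHom_comp, ← CommRingCat.ofHom_comp]
  congr 2
  ext r
  exact (h r).symm

theorem aut_over {K₀ K : Type u} [CommRing K₀] [CommRing K] [Algebra K₀ K] (sK : K ≃+* K)
    (h : ∀ r, sK (algebraMap K₀ K r) = algebraMap K₀ K r) : aut sK ≫ spm K₀ K = spm K₀ K := by
  rw [← Spec.map_comp, ← CommRingCat.ofHom_comp]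
  congr 2
  ext r
  exact h r

end aut

section rank

theorem rank_facts {S : Scheme.{u}} {A : Over S} [GrpObj A] [IsCommMonObj A] {T : Over S} (l : ℕ) [hl : Fact l.Prime]
    (d : ℕ) (hc : ∀ m, Nat.card {x : T ⟶ A // x ^ (l ^ m) = 1} = (l ^ m) ^ d)
    (hdiv : ∀ (n : ℕ) (x : T ⟶ A), x ^ (l ^ n) = 1 → ∃ y : T ⟶ A, y ^ l = x) :
    Module.Free ℤ_[l] (TateMod A l T) ∧ Module.Finite ℤ_[l] (TateMod A l T) ∧
      Module.finrank ℤ_[l] (TateMod A l T) = d := by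
  have h1 : Nat.card (torsPts A l T) = l ^ d := by
    have h2 := hc 1
    rw [pow_one] at h2
    exact h2
  have hfin : Finite (torsPts A l T) := Nat.finite_of_card_ne_zero (by
    rw [h1]; exact pow_ne_zero _ hl.out.ne_zero)
  exact ⟨K510.TateMod.free_of_finite hfin, K510.TateMod.finite_of_finite hfin, finrank_of_card hdiv d h1⟩

end rank

section main

variable {R K K₀ Ω : Type u} [CommRing R] [IsDomain R] [IsDiscreteValuationRing R] [Field K] [Algebra R K]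
  [IsFractionRing R K] [Field K₀] [Algebra K₀ K] [Field Ω] [Algebra K Ω] [Algebra R Ω] [IsScalarTower R K Ω]
  [Algebra K₀ Ω] [IsScalarTower K₀ K Ω] [IsGalois K Ω] [IsSepClosed Ω]
  {N : Over (Spec (CommRingCat.of R))} [GrpObj N] [IsCommMonObj N] {A : Over (Spec (CommRingCat.of K₀))} [GrpObj A]
  [IsCommMonObj A] [IsCommMonObj ((SGA7.genFib R K).obj N)] [LocallyOfFiniteType ((SGA7.genFib R K).obj N).hom]
  (hN : SGA7.IsNeron R K N) (e : (SGA7.genFib R K).obj N ≅ Red.bc (spm K₀ K) A) [IsMonHom e.hom]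
  (h0 : IsOpen (SGA3x.neutralSet N)) [GrpObj (opn N (neutral N h0))] [IsMonHom (opnι N (neutral N h0))]
  [IsCommMonObj (opn N (neutral N h0))]
  (hR : EtCoh.IsStrictlyHenselianLocalRing R)
  {F : Type u} [Field F] [IsAlgClosed F] (t : Spec (CommRingCat.of F) ⟶ Spec (CommRingCat.of R))
  (ht : t (IsLocalRing.closedPoint F) = IsLocalRing.closedPoint R)
  (sK : K ≃+* K) (s : R ≃+* R) (σ : Ω ≃ₐ[K₀] Ω) (hσ : ∀ x, σ (algebraMap K Ω x) = algebraMap K Ω (sK x))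
  (hsK : ∀ r, sK (algebraMap R K r) = algebraMap R K (s r)) {Q : ℕ} (hQ : FrobOK F Q)
  (hs : ∀ r, s r - r ^ Q ∈ IsLocalRing.maximalIdeal R)
  (h2 : aut sK.symm ≫ spm K₀ K = spm K₀ K)
  {φ : (Over.map (aut s.symm)).obj N ⟶ N} (hφ : jN e ≫ φ.left = phA h2 ≫ jN e) (hsl : SL φ)
  {φ0 : (Over.map (aut s.symm)).obj (opn N (neutral N h0)) ⟶ opn N (neutral N h0)}
  (hφ0 : φ0 ≫ opnι N (neutral N h0) = (Over.map (aut s.symm)).map (opnι N (neutral N h0)) ≫ φ) (hsl0 : SL φ0)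
  (hts : ∀ ρ : Spec (CommRingCat.of F) ⟶ Spec (CommRingCat.of F), K520.Frob.IsFrob Q ρ → ρ ≫ t = t ≫ aut s)

/-- the geometric generic point of a section of the identity component -/
noncomputable def theta : (𝟙_ (Over (Spec (CommRingCat.of R))) ⟶ opn N (neutral N h0)) →* SGA7.Pts Ω A :=
  (th Ω e).comp
    { toFun := fun g => g ≫ opnι N (neutral N h0)
      map_one' := MonObj.one_comp _
      map_mul' := fun x y => MonObj.mul_comp x y _ }

theorem theta_eq (g : 𝟙_ (Over (Spec (CommRingCat.of R))) ⟶ opn N (neutral N h0)) :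
    theta (Ω := Ω) e h0 g = Eps.eps Ω e (Dict.secΩ R K Ω N (g ≫ opnι N (neutral N h0))) := Eps.th_eq e _

include hN in
theorem theta_inj : Function.Injective (theta (Ω := Ω) e h0) := by
  intro g g' h
  rw [theta_eq, theta_eq] at h
  exact (cancel_mono (opnι N (neutral N h0))).1 (Dict.secΩ_injective R K Ω N hN ((Eps.eps Ω e).injective h))

theorem sc_comp (hφ0 : φ0 ≫ opnι N (neutral N h0) = (Over.map (aut s.symm)).map (opnι N (neutral N h0)) ≫ φ)
    (g : 𝟙_ (Over (Spec (CommRingCat.of R))) ⟶ opn N (neutral N h0)) :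
    sc (aut_symm s) φ0 hsl0 g ≫ opnι N (neutral N h0) = sc (aut_symm s) φ hsl (g ≫ opnι N (neutral N h0)) := by
  ext1
  have h1 : φ0.left ≫ (opnι N (neutral N h0)).left = (opnι N (neutral N h0)).left ≫ φ.left :=
    congrArg (fun f => f.left) hφ0
  rw [Over.comp_left, sc_left, sc_left, Over.comp_left]
  simp only [Category.assoc]
  rw [h1]

include hσ hsK hφ hsl hφ0 in
theorem theta_sc (g : 𝟙_ (Over (Spec (CommRingCat.of R))) ⟶ opn N (neutral N h0)) :
    theta e h0 (sc (aut_symm s) φ0 hsl0 g) = SGA7.galAct σ (theta e h0 g) := by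
  change th Ω e (sc (aut_symm s) φ0 hsl0 g ≫ opnι N (neutral N h0)) = SGA7.galAct σ (th Ω e (g ≫ opnι N (neutral N h0)))
  rw [sc_comp h0 s hsl hsl0 hφ0]
  refine th_sc (s := aut s) (s' := aut s.symm) (sK := aut sK) (sK' := aut sK.symm) e (aut_comm s.symm sK.symm ?_)
    (aut_comm s sK hsK) h2 (aut_symm s) (aut_symm sK) hφ hsl σ ?_ _
  · intro r
    rw [RingEquiv.symm_apply_eq, hsK, RingEquiv.apply_symm_apply]
  · rw [← Spec.map_comp, ← Spec.map_comp, ← CommRingCat.ofHom_comp, ← CommRingCat.ofHom_comp]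
    congr 2
    ext r
    exact hσ r

include hN in
theorem theta_fix (τ : Ω ≃ₐ[K] Ω) (g : 𝟙_ (Over (Spec (CommRingCat.of R))) ⟶ opn N (neutral N h0)) :
    SGA7.galAct (τ.restrictScalars K₀) (theta e h0 g) = theta e h0 g := by
  rw [theta_eq, ← Eps.eps_galAct, (Dict.exists_secΩ_iff R K Ω N hN _).1 ⟨_, rfl⟩]

include hN in
/-- compatible systems of fixed points come from the identity component -/
theorem exists_theta (l : ℕ) [hl : Fact l.Prime] (τ : Ω ≃ₐ[K] Ω)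
    (hτ : ∀ (ν : ℕ) (x : SGA7.Pts Ω ((SGA7.genFib R K).obj N)), x ^ (l ^ ν) = 1 → SGA7.galAct τ x = x →
      ∀ σ : Ω ≃ₐ[K] Ω, SGA7.galAct σ x = x)
    (hdl : ∀ W : Subgroup (𝟙_ (Over (Spec (CommRingCat.of R))) ⟶ N), (∀ w ∈ W, ∃ v ∈ W, v ^ l = w) →
      (∀ w ∈ W, ∃ n : ℕ, w ^ (l ^ n) = 1) → ∀ w ∈ W, ∃ w' : 𝟙_ (Over (Spec (CommRingCat.of R))) ⟶ opn N (neutral N h0),
        w' ≫ opnι N (neutral N h0) = w)
    (x : TateMod A l (SGA7.pt Ω)) (hx : ∀ n, SGA7.galAct (τ.restrictScalars K₀) (cp n x) = cp n x) (n : ℕ) :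
    ∃ g, theta e h0 g = cp n x := by
  have h1 : ∀ n, ∃ g : 𝟙_ (Over (Spec (CommRingCat.of R))) ⟶ N, Eps.eps Ω e (Dict.secΩ R K Ω N g) = cp n x := by
    intro n
    have h3 : Eps.eps Ω e ((Eps.eps Ω e).symm (cp n x)) = cp n x := (Eps.eps Ω e).apply_symm_apply _
    obtain ⟨g, hg⟩ := (Dict.exists_secΩ_iff R K Ω N hN ((Eps.eps Ω e).symm (cp n x))).2 (hτ n _
      ((Eps.eps Ω e).injective (by rw [map_pow, h3, cp_pow, map_one]))
      ((Eps.eps Ω e).injective (by rw [Eps.eps_galAct, h3, hx])))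
    exact ⟨g, by rw [hg, h3]⟩
  choose g hg using h1
  have hinj : ∀ {a b : 𝟙_ (Over (Spec (CommRingCat.of R))) ⟶ N},
      Eps.eps Ω e (Dict.secΩ R K Ω N a) = Eps.eps Ω e (Dict.secΩ R K Ω N b) → a = b := fun h =>
    Dict.secΩ_injective R K Ω N hN ((Eps.eps Ω e).injective h)
  have hpow : ∀ n, g (n + 1) ^ l = g n := fun n => hinj (by rw [map_pow, map_pow, hg, hg, cp_succ])
  have htor : ∀ n, g n ^ (l ^ n) = 1 := fun n => hinj (by rw [map_pow, map_pow, hg, cp_pow, map_one, map_one])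
  obtain ⟨w, hw⟩ := hdl (Subgroup.closure (Set.range g)) (fun w hw => by
      induction hw using Subgroup.closure_induction with
      | mem x hx =>
        obtain ⟨n, rfl⟩ := hx
        exact ⟨g (n + 1), Subgroup.subset_closure ⟨n + 1, rfl⟩, hpow n⟩
      | one => exact ⟨1, one_mem _, one_pow _⟩
      | mul x y hx hy ihx ihy =>
        obtain ⟨v, hv, rfl⟩ := ihx
        obtain ⟨v', hv', rfl⟩ := ihy
        exact ⟨v * v', mul_mem hv hv', mul_pow _ _ _⟩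
      | inv x hx ih =>
        obtain ⟨v, hv, rfl⟩ := ih
        exact ⟨v⁻¹, inv_mem hv, inv_pow _ _⟩) (fun w hw => by
      induction hw using Subgroup.closure_induction with
      | mem x hx =>
        obtain ⟨n, rfl⟩ := hx
        exact ⟨n, htor n⟩
      | one => exact ⟨0, one_pow _⟩
      | mul x y hx hy ihx ihy =>
        obtain ⟨n, hn⟩ := ihx
        obtain ⟨m, hm⟩ := ihy
        refine ⟨n + m, ?_⟩
        rw [mul_pow, pow_add, pow_mul, hn, one_pow, Nat.mul_comm, pow_mul, hm, one_pow, _root_.mul_one]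
      | inv x hx ih =>
        obtain ⟨n, hn⟩ := ih
        exact ⟨n, by rw [inv_pow, hn, inv_one]⟩) (g n) (Subgroup.subset_closure ⟨n, rfl⟩)
  exact ⟨w, by rw [theta_eq, hw, hg]⟩

include hN e hR ht hσ hsK hs h2 hφ hsl hφ0 in
/-- **The characteristic polynomial of `σ`.** -/
theorem charpoly_eq {n : ℕ} (X : StrDef.Str (Red.bc t (opn N (neutral N h0))) (u (aut_symm s) φ0 hsl0 hQ t hts) Q n)
    (l : ℕ) [hl : Fact l.Prime] (hlu : IsUnit (l : R)) (hlF : (l : F) ≠ 0)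
    [IsCommMonObj (Red.bc t (opn N (neutral N h0)))] [LocallyOfFiniteType (Red.bc t (opn N (neutral N h0))).hom]
    (het : ∀ m, Etale ((𝟙 (opn N (neutral N h0)) : opn N (neutral N h0) ⟶ opn N (neutral N h0)) ^ (l ^ m)).left)
    (hlev : ∀ (ν : ℕ) (σ τ : Ω ≃ₐ[K] Ω) (x : SGA7.Pts Ω ((SGA7.genFib R K).obj N)), x ^ (l ^ ν) = 1 →
      SGA7.dev σ (SGA7.dev τ x) = 1)
    (τ : Ω ≃ₐ[K] Ω) (hτ : ∀ (ν : ℕ) (x : SGA7.Pts Ω ((SGA7.genFib R K).obj N)), x ^ (l ^ ν) = 1 →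
      SGA7.galAct τ x = x → ∀ σ : Ω ≃ₐ[K] Ω, SGA7.galAct σ x = x)
    (hdl : ∀ W : Subgroup (𝟙_ (Over (Spec (CommRingCat.of R))) ⟶ N), (∀ w ∈ W, ∃ v ∈ W, v ^ l = w) →
      (∀ w ∈ W, ∃ n : ℕ, w ^ (l ^ n) = 1) → ∀ w ∈ W, ∃ w' : 𝟙_ (Over (Spec (CommRingCat.of R))) ⟶ opn N (neutral N h0),
        w' ≫ opnι N (neutral N h0) = w)
    (hcore : ∀ (m : ℕ) (z : SGA7.Pts Ω ((SGA7.genFib R K).obj N)), z ^ (l ^ m) = 1 →
      ∃ g : 𝟙_ (Over (Spec (CommRingCat.of R))) ⟶ opn N (neutral N h0),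
        Dict.secΩ R K Ω N (g ≫ opnι N (neutral N h0)) = SGA7.dev τ z ∧ Semi.sp t g ≫ X.q = 1)
    (hcA : ∀ m, Nat.card {x : SGA7.Pts Ω ((SGA7.genFib R K).obj N) // x ^ (l ^ m) = 1} = (l ^ m) ^ (2 * n))
    (hdA : ∀ (n : ℕ) (x : SGA7.Pts Ω ((SGA7.genFib R K).obj N)), x ^ (l ^ n) = 1 → ∃ y : SGA7.Pts Ω ((SGA7.genFib R K).obj N),
      y ^ l = x)
    [Module.Free ℤ_[l] (TateMod X.B l (E F))] [Module.Finite ℤ_[l] (TateMod X.B l (E F))]
    (hrB : Module.finrank ℤ_[l] (TateMod X.B l (E F)) = 2 * X.a) (PB : ℤ[X])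
    (hPB : (tateMapₗ (l := l) (T := E F) X.uB).charpoly = PB.map (Int.castRingHom ℤ_[l]))
    (ρ : (Ω ≃ₐ[K₀] Ω) → Module.End ℤ_[l] (TateMod A l (SGA7.pt Ω)))
    (hρ : ∀ (τ : Ω ≃ₐ[K₀] Ω) (z : TateMod A l (SGA7.pt Ω)) (m : ℕ), cp m (ρ τ z) = SGA7.galAct τ (cp m z))
    [Module.Free ℤ_[l] (TateMod A l (SGA7.pt Ω))] [Module.Finite ℤ_[l] (TateMod A l (SGA7.pt Ω))] :
    (ρ σ).charpoly = (X.M.charpoly * ((Q : ℤ) • X.M).charpoly * PB).map (Int.castRingHom ℤ_[l]) := by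
  have hmu := isMonHom_u (aut_symm s) φ0 hsl0 hQ t hts
  obtain ⟨-, -, r3⟩ := rank_facts (A := A) (T := SGA7.pt Ω) l (2 * n) (fun m => by
      rw [← hcA m]
      exact (Nat.card_congr ((Eps.eps Ω e).toEquiv.subtypeEquiv fun x => by
        change x ^ (l ^ m) = 1 ↔ (Eps.eps Ω e x) ^ (l ^ m) = 1
        rw [← map_pow, map_eq_one_iff _ (Eps.eps Ω e).injective])).symm)
    (fun n x hx => by
      obtain ⟨y, hy⟩ := hdA n ((Eps.eps Ω e).symm x) (by rw [← map_pow, hx, map_one])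
      exact ⟨Eps.eps Ω e y, by rw [← map_pow, hy, MulEquiv.apply_symm_apply]⟩)
  refine PerL.charpoly_eq X l (theta e h0) (Semi.sp t) (sc (aut_symm s) φ0 hsl0) σ (τ.restrictScalars K₀) hlF
    hQ.ne_zero ?_ ?_ ?_ ?_ (theta_inj hN e h0) (theta_fix hN e h0 τ)
    (exists_theta hN e h0 l τ hτ hdl) ?_ ?_ ρ hρ r3 hrB PB hPB
  · exact theta_sc e h0 sK s σ hσ hsK h2 hφ hsl hφ0 hsl0
  · exact fun g => Semi.sp_sc (aut_symm s) φ0 hsl0 hQ t hts g
  · intro m g hg hg'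
    have := het m
    exact BpFacts.sp_inj t ht (n := l ^ m) g hg hg'
  · intro m y hy
    have := het m
    exact BpFacts.sp_surj t ht hR (n := l ^ m) y hy
  · intro m z hz
    obtain ⟨g, hg, hg'⟩ := hcore m ((Eps.eps Ω e).symm z) (by rw [← map_pow, hz, map_one])
    exact ⟨g, by rw [theta_eq, hg, Eps.eps_dev, MulEquiv.apply_symm_apply], hg'⟩
  · intro m z hz
    exact Rel.rel e hR l hlu sK s σ hσ hsK Q hs τ hlev m z hz

end main

end K222.Assemble
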