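import Groth.Agent.Sga7.H481.Tame

/-!
# Conjugation and roots of the uniformizer

`R` strictly henselian discrete valuation ring, `K` its fraction field, `Ω` a separable closure, `σ` an automorphism of
`Ω` inducing `s` on `R` with `s r ≡ r ^ Q`: for `τ ∈ Gal(Ω/K)`, `σ τ σ⁻¹` and `τ ^ Q` have the same action on the roots of
order prime to the residue characteristic of a uniformizer.
-/

set_option autoImplicit false
universe u

namespace K222.Comm

open IsLocalRing Groth.Agent.Sga7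

/-- roots of unity of invertible order are determined by their residue classes -/
theorem eq_of_sub_mem {R : Type u} [CommRing R] [IsLocalRing R] (m : ℕ) (hm : IsUnit (m : R)) {x y : R}
    (hx : x ^ m = 1) (hy : y ^ m = 1) (h : x - y ∈ maximalIdeal R) : x = y := by
  have h1 : (∑ i ∈ Finset.range m, x ^ i * y ^ (m - 1 - i)) * (x - y) = 0 := by
    rw [(Commute.all x y).geom_sum₂_mul, hx, hy, sub_self]
  have h2 : residue R x = residue R y := by
    rw [← sub_eq_zero, ← map_sub, residue_eq_zero_iff]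
    exact h
  have hm0 : m ≠ 0 := by
    rintro rfl
    rw [Nat.cast_zero] at hm
    exact not_isUnit_zero hm
  have hxu : IsUnit x := IsUnit.of_pow_eq_one hx hm0
  have h3 : IsUnit (∑ i ∈ Finset.range m, x ^ i * y ^ (m - 1 - i)) := by
    have h4 : residue R (∑ i ∈ Finset.range m, x ^ i * y ^ (m - 1 - i)) ≠ 0 := by
      rw [map_sum]
      have h5 : ∀ i ∈ Finset.range m, residue R (x ^ i * y ^ (m - 1 - i)) = residue R x ^ (m - 1) := by
        intro i hi
        rw [map_mul, map_pow, map_pow, ← h2, ← pow_add]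
        congr 1
        have := Finset.mem_range.1 hi
        omega
      rw [Finset.sum_congr rfl h5, Finset.sum_const, Finset.card_range, nsmul_eq_mul]
      refine mul_ne_zero ?_ (pow_ne_zero _ ?_)
      · rw [← map_natCast (residue R)]
        exact (hm.map (residue R)).ne_zero
      · exact (hxu.map (residue R)).ne_zero
    exact (residue_ne_zero_iff_isUnit _).1 h4
  have h6 := (h3.mul_right_eq_zero).1 h1
  exact sub_eq_zero.1 h6

section

variable {R K Ω : Type u} [CommRing R] [IsDomain R] [IsDiscreteValuationRing R]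
  [Field K] [Algebra R K] [IsFractionRing R K] [Field Ω] [Algebra K Ω] [Algebra R Ω]
  [IsScalarTower R K Ω] [IsGalois K Ω] [IsSepClosed Ω]

/-- units have roots -/
theorem exists_root_of_isUnit {R : Type u} [CommRing R] [IsDomain R] (hR : EtCoh.IsStrictlyHenselianLocalRing R)
    (m : ℕ) (hm : IsUnit (m : R)) (u : R) (hu : IsUnit u) : ∃ v : R, v ^ m = u := by
  obtain ⟨h1, h2⟩ := hR
  have hm0 : m ≠ 0 := by
    rintro rfl
    rw [Nat.cast_zero] at hm
    exact not_isUnit_zero hm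
  have hmk : ((m : ℕ) : ResidueField R) ≠ 0 := by
    rw [← map_natCast (residue R)]
    exact (hm.map (residue R)).ne_zero
  have : NeZero ((m : ℕ) : ResidueField R) := ⟨hmk⟩
  obtain ⟨b, hb⟩ := IsSepClosed.exists_pow_nat_eq (residue R u) m
  obtain ⟨b, rfl⟩ := residue_surjective b
  have hb0 : residue R b ≠ 0 := by
    intro h0
    rw [h0, zero_pow hm0] at hb
    exact (hu.map (residue R)).ne_zero hb.symm
  obtain ⟨v, hv, -⟩ := HenselianLocalRing.is_henselian (Polynomial.X ^ m - Polynomial.C u)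
    (Polynomial.monic_X_pow_sub_C u hm0) b (by
      rw [← residue_eq_zero_iff]
      simp only [Polynomial.eval_sub, Polynomial.eval_pow, Polynomial.eval_X, Polynomial.eval_C, map_sub, map_pow]
      rw [hb, sub_self]) (by
      rw [← residue_ne_zero_iff_isUnit]
      simp only [Polynomial.derivative_sub, Polynomial.derivative_X_pow, Polynomial.derivative_C, sub_zero,
        Polynomial.eval_mul, Polynomial.eval_C, Polynomial.eval_pow, Polynomial.eval_X, map_mul, map_pow]
      refine mul_ne_zero ?_ (pow_ne_zero _ hb0)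
      simpa using hmk)
  refine ⟨v, ?_⟩
  have h3 : Polynomial.eval v (Polynomial.X ^ m - Polynomial.C u) = 0 := hv
  simpa [sub_eq_zero] using h3

theorem conj_root (hR : EtCoh.IsStrictlyHenselianLocalRing R) (m : ℕ) (hm : IsUnit (m : R)) {π : R}
    (hπ : Irreducible π) (σ : Ω ≃+* Ω) (s : R ≃+* R) (hσ : ∀ r, σ (algebraMap R Ω r) = algebraMap R Ω (s r)) (Q : ℕ)
    (hs : ∀ r, s r - r ^ Q ∈ maximalIdeal R) (τ τ' : Ω ≃ₐ[K] Ω) (hτ' : ∀ z, τ' (σ z) = σ (τ z)) (z : Ω)
    (hz : z ^ m = algebraMap R Ω π) : τ' z = (τ ^ Q) z := by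
  have hR' : ∀ (t : Ω ≃ₐ[K] Ω) (r : R), t (algebraMap R Ω r) = algebraMap R Ω r := by
    intro t r
    rw [IsScalarTower.algebraMap_apply R K Ω, AlgEquiv.commutes]
  have hinj := H730inj (R := R) (K := K) (Ω := Ω)
  have hff : FaithfulSMul R Ω := (faithfulSMul_iff_algebraMap_injective R Ω).2 hinj
  have hm0 : m ≠ 0 := by
    rintro rfl
    rw [Nat.cast_zero] at hm
    exact not_isUnit_zero hm
  have hπ0 : algebraMap R Ω π ≠ 0 := by rw [Ne, map_eq_zero_iff _ hinj]; exact hπ.ne_zero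
  have hz0 : z ≠ 0 := by
    rintro rfl
    rw [zero_pow hm0] at hz
    exact hπ0 hz.symm
  -- the root `w = σ⁻¹ z`
  have hπ' : Irreducible (s.symm π) := (MulEquiv.irreducible_iff s.symm).2 hπ
  obtain ⟨u, hu⟩ := IsDiscreteValuationRing.associated_of_irreducible R hπ hπ'
  obtain ⟨v, hv⟩ := exists_root_of_isUnit hR m hm u u.isUnit
  have hw : (σ.symm z) ^ m = algebraMap R Ω (s.symm π) := by
    rw [← map_pow, hz]
    apply σ.injective
    rw [RingEquiv.apply_symm_apply, hσ, RingEquiv.apply_symm_apply]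
  have hw0 : algebraMap R Ω (s.symm π) ≠ 0 := by
    rw [Ne, map_eq_zero_iff _ hinj]; exact hπ'.ne_zero
  obtain ⟨c, hc⟩ := Groth.Agent.Sga4h.WildPro.exists_eq_mul R hR m hm (x := σ.symm z) (y := algebraMap R Ω v * z) hw0 hw (by
    rw [mul_pow, hz, ← map_pow, ← map_mul, hv, mul_comm, hu])
  obtain ⟨q, hq⟩ := H481.Tame.exists_root_act R K Ω hR m hm hπ.ne_zero hz τ
  -- `q` is a root of unity
  have hq1 : q ^ m = 1 := by
    apply hinj
    have h1 := congrArg (· ^ m) hq
    simp only [mul_pow, ← map_pow τ, hz, hR'] at h1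
    rw [map_pow, map_one]
    exact (mul_eq_right₀ hπ0).mp h1.symm
  have h2 : τ (σ.symm z) = algebraMap R Ω q * σ.symm z := by
    rw [hc, map_mul, map_mul, hR', hR', hq]
    ring
  have h3 : τ' z = algebraMap R Ω (s q) * z := by
    have h4 := hτ' (σ.symm z)
    rw [RingEquiv.apply_symm_apply, h2, map_mul, RingEquiv.apply_symm_apply, hσ] at h4
    exact h4
  have h5 : ∀ j : ℕ, (τ ^ j) z = algebraMap R Ω (q ^ j) * z := by
    intro j
    induction j with
    | zero => rw [pow_zero, pow_zero, map_one, one_mul, AlgEquiv.one_apply]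
    | succ j ih => rw [pow_succ', AlgEquiv.mul_apply, ih, map_mul, hR', hq, pow_succ, map_mul, mul_assoc]
  rw [h3, h5]
  congr 2
  exact eq_of_sub_mem m hm (by rw [← map_pow, hq1, map_one]) (by rw [← pow_mul, mul_comm, pow_mul, hq1, one_pow]) (hs q)
where
  H730inj {R K Ω : Type u} [CommRing R] [IsDomain R] [Field K] [Algebra R K] [IsFractionRing R K] [Field Ω]
    [Algebra K Ω] [Algebra R Ω] [IsScalarTower R K Ω] : Function.Injective (algebraMap R Ω) := by
    rw [IsScalarTower.algebraMap_eq R K Ω]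
    exact (algebraMap K Ω).injective.comp (IsFractionRing.injective R K)

/-- the element `(τ ^ Q)⁻¹ σ τ σ⁻¹` is pro-prime-to-`ℓ` -/
theorem exists_coprime (hR : EtCoh.IsStrictlyHenselianLocalRing R) (ℓ : ℕ) [hℓ : Fact ℓ.Prime] (hu : IsUnit (ℓ : R))
    (σ : Ω ≃+* Ω) (s : R ≃+* R) (hσ : ∀ r, σ (algebraMap R Ω r) = algebraMap R Ω (s r)) (Q : ℕ)
    (hs : ∀ r, s r - r ^ Q ∈ maximalIdeal R) (τ τ' : Ω ≃ₐ[K] Ω) (hτ' : ∀ z, τ' (σ z) = σ (τ z))
    (U : Subgroup (Ω ≃ₐ[K] Ω)) (hU : IsOpen (U : Set (Ω ≃ₐ[K] Ω))) :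
    ∃ d : ℕ, d.Coprime ℓ ∧ ((τ ^ Q)⁻¹ * τ') ^ d ∈ U := by
  obtain ⟨π, hπ⟩ := IsDiscreteValuationRing.exists_irreducible R
  refine H481.Tame.exists_coprime_pow_mem R K Ω hR ℓ hu hπ _ (fun a z hz => ?_) U hU
  have hua : IsUnit ((ℓ ^ a : ℕ) : R) := by rw [Nat.cast_pow]; exact hu.pow a
  have h1 := conj_root hR (ℓ ^ a) hua hπ σ s hσ Q hs τ τ' hτ' z hz
  rw [AlgEquiv.mul_apply, h1, ← AlgEquiv.mul_apply, inv_mul_cancel, AlgEquiv.one_apply]

end

end K222.Comm
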