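import Groth.Agent.AbVar.K510.TateMod

/-!
# Maps between Tate modules induced by homomorphisms between groups of points

`tm φ : T_l(A)(T) →ₗ T_l(A')(T')` for a homomorphism `φ : A(T) → A'(T')` between the groups of points of commutative
group schemes over possibly different bases: injectivity, surjectivity, exactness, functoriality.
-/

set_option autoImplicit false
universe u

open CategoryTheory MonoidalCategory CartesianMonoidalCategory MonObj AlgebraicGeometry AbDual

namespace K222.TateGrp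

section

variable {S S' S'' S''' : Scheme.{u}} {A : Over S} [GrpObj A] [IsCommMonObj A] {A' : Over S'} [GrpObj A'] [IsCommMonObj A']
  {A'' : Over S''} [GrpObj A''] [IsCommMonObj A''] {A''' : Over S'''} [GrpObj A'''] [IsCommMonObj A''']
  {T : Over S} {T' : Over S'} {T'' : Over S''} {T''' : Over S'''} {l : ℕ}

/-- the `n`-th component, as a point -/
abbrev cp (n : ℕ) (x : TateMod A l T) : T ⟶ A := ((x : ℕ → Additive (T ⟶ A)) n).toMul

theorem ext_cp {x y : TateMod A l T} (h : ∀ n, cp n x = cp n y) : x = y :=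
  TateMod.ext fun n => Additive.toMul.injective (h n)

theorem cp_pow (n : ℕ) (x : TateMod A l T) : cp n x ^ (l ^ n) = 1 := x.torsion n

theorem cp_succ (n : ℕ) (x : TateMod A l T) : cp (n + 1) x ^ l = cp n x :=
  congrArg Additive.toMul (x.compat n)

theorem cp_zero (x : TateMod A l T) : cp 0 x = 1 := by
  have := cp_pow 0 x
  rwa [pow_zero, pow_one] at this

theorem cp_add (n : ℕ) (x y : TateMod A l T) : cp n (x + y) = cp n x * cp n y := rfl

theorem cp_sub (n : ℕ) (x y : TateMod A l T) : cp n (x - y) = cp n x / cp n y := rfl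

theorem cp_one (n : ℕ) : cp n (0 : TateMod A l T) = 1 := rfl

theorem cp_nsmul (n m : ℕ) (x : TateMod A l T) : cp n (m • x) = cp n x ^ m := rfl

/-- building an element of the Tate module -/
def mk' (f : ℕ → (T ⟶ A)) (h0 : f 0 = 1) (h : ∀ n, f (n + 1) ^ l = f n) : TateMod A l T :=
  ⟨fun n => Additive.ofMul (f n), by
    have h1 : ∀ n, f n ^ (l ^ n) = 1 := by
      intro n
      induction n with
      | zero => rw [pow_zero, pow_one, h0]
      | succ n ih => rw [pow_succ', pow_mul, h, ih]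
    exact ⟨fun n => Additive.toMul.injective (h1 n), fun n => Additive.toMul.injective (h n)⟩⟩

theorem cp_mk' (f : ℕ → (T ⟶ A)) (h0 : f 0 = 1) (h : ∀ n, f (n + 1) ^ l = f n) (n : ℕ) : cp n (mk' f h0 h) = f n := rfl

variable [hl : Fact l.Prime]

theorem cp_smul (n : ℕ) (a : ℤ_[l]) (x : TateMod A l T) : cp n (a • x) = cp n x ^ (a.appr n) := rfl

theorem cp_natCast_smul (n m : ℕ) (x : TateMod A l T) : cp n ((m : ℤ_[l]) • x) = cp n x ^ m := by
  rw [Nat.cast_smul_eq_nsmul]
  rfl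

/-- the map on Tate modules induced by a homomorphism on points -/
noncomputable def tm (φ : (T ⟶ A) →* (T' ⟶ A')) : TateMod A l T →ₗ[ℤ_[l]] TateMod A' l T' where
  toFun x := ⟨fun n => Additive.ofMul (φ (cp n x)), by
    refine ⟨fun n => Additive.toMul.injective ?_, fun n => Additive.toMul.injective ?_⟩
    · change φ (cp n x) ^ (l ^ n) = 1
      rw [← map_pow, cp_pow, map_one]
    · change φ (cp (n + 1) x) ^ l = φ (cp n x)
      rw [← map_pow, cp_succ]⟩
  map_add' x y := ext_cp fun n => map_mul φ (cp n x) (cp n y)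
  map_smul' a x := ext_cp fun n => map_pow φ (cp n x) (a.appr n)

theorem cp_tm (φ : (T ⟶ A) →* (T' ⟶ A')) (n : ℕ) (x : TateMod A l T) : cp n (tm φ x) = φ (cp n x) := rfl

theorem tm_comp (φ : (T ⟶ A) →* (T' ⟶ A')) (ψ : (T' ⟶ A') →* (T'' ⟶ A'')) (x : TateMod A l T) :
    tm ψ (tm φ x) = tm (ψ.comp φ) x := rfl

theorem tm_congr {φ ψ : (T ⟶ A) →* (T' ⟶ A')} (x : TateMod A l T) (h : ∀ n, φ (cp n x) = ψ (cp n x)) :
    tm φ x = tm ψ x := ext_cp h

/-- injectivity -/
theorem tm_injective (φ : (T ⟶ A) →* (T' ⟶ A')) (h : ∀ (n : ℕ) (x : T ⟶ A), x ^ (l ^ n) = 1 → φ x = 1 → x = 1) :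
    Function.Injective (tm (l := l) φ) := by
  rw [injective_iff_map_eq_zero]
  intro x hx
  refine ext_cp fun n => h n _ (cp_pow n x) ?_
  have h1 := congrArg (cp n) hx
  exact h1

/-- surjectivity, for a homomorphism which is bijective on the `l`-power torsion -/
theorem tm_surjective (φ : (T ⟶ A) →* (T' ⟶ A'))
    (h : ∀ (n : ℕ) (x : T ⟶ A), x ^ (l ^ n) = 1 → φ x = 1 → x = 1)
    (h' : ∀ (n : ℕ) (y : T' ⟶ A'), y ^ (l ^ n) = 1 → ∃ x, x ^ (l ^ n) = 1 ∧ φ x = y) :
    Function.Surjective (tm (l := l) φ) := by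
  intro y
  choose f hf hf' using fun n => h' n (cp n y) (cp_pow n y)
  refine ⟨mk' f ?_ fun n => ?_, ext_cp fun n => hf' n⟩
  · have := hf 0
    rwa [pow_zero, pow_one] at this
  · have h1 : φ (f (n + 1) ^ l / f n) = 1 := by
      rw [map_div, map_pow, hf', hf', cp_succ, div_self']
    have h2 : (f (n + 1) ^ l / f n) ^ (l ^ n) = 1 := by
      rw [div_pow, hf, ← pow_mul, ← pow_succ', hf, div_one]
    exact div_eq_one.1 (h n _ h2 h1)

/-- exactness in the middle -/
theorem tm_exact (φ : (T ⟶ A) →* (T' ⟶ A')) (ψ : (T' ⟶ A') →* (T'' ⟶ A''))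
    (h : ∀ (n : ℕ) (x : T ⟶ A), x ^ (l ^ n) = 1 → φ x = 1 → x = 1)
    (h' : ∀ (n : ℕ) (y : T' ⟶ A'), y ^ (l ^ n) = 1 → (ψ y = 1 ↔ ∃ x, x ^ (l ^ n) = 1 ∧ φ x = y)) :
    LinearMap.range (tm (l := l) φ) = LinearMap.ker (tm (l := l) ψ) := by
  ext y
  rw [LinearMap.mem_range, LinearMap.mem_ker]
  constructor
  · rintro ⟨x, rfl⟩
    refine ext_cp fun n => ?_
    exact (h' n _ (cp_pow n (tm φ x))).2 ⟨cp n x, cp_pow n x, rfl⟩
  · intro hy
    have h0 : ∀ n, ∃ x, x ^ (l ^ n) = 1 ∧ φ x = cp n y := fun n =>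
      (h' n _ (cp_pow n y)).1 (congrArg (cp n) hy)
    choose f hf hf' using h0
    refine ⟨mk' f ?_ fun n => ?_, ext_cp fun n => hf' n⟩
    · have := hf 0
      rwa [pow_zero, pow_one] at this
    · have h1 : φ (f (n + 1) ^ l / f n) = 1 := by
        rw [map_div, map_pow, hf', hf', cp_succ, div_self']
      have h2 : (f (n + 1) ^ l / f n) ^ (l ^ n) = 1 := by
        rw [div_pow, hf, ← pow_mul, ← pow_succ', hf, div_one]
      exact div_eq_one.1 (h n _ h2 h1)

/-- surjectivity on the right, the kernel being divisible -/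
theorem tm_surjective_of_divisible (φ : (T ⟶ A) →* (T' ⟶ A')) (ψ : (T' ⟶ A') →* (T'' ⟶ A''))
    (hφ : ∀ y, ψ y = 1 → ∃ x, φ x = y) (hψφ : ∀ x, ψ (φ x) = 1) (hψ : Function.Surjective ψ)
    (hdiv : ∀ x : T ⟶ A, ∃ y : T ⟶ A, y ^ l = x) : Function.Surjective (tm (l := l) ψ) := by
  intro z
  have step : ∀ (n : ℕ) (y : {y : T' ⟶ A' // ψ y = cp n z}), ∃ y' : {y : T' ⟶ A' // ψ y = cp (n + 1) z}, y'.1 ^ l = y.1 := by
    intro n y
    obtain ⟨w, hw⟩ := hψ (cp (n + 1) z)
    have h1 : ψ (w ^ l / y.1) = 1 := by rw [map_div, map_pow, hw, y.2, cp_succ, div_self']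
    obtain ⟨x, hx⟩ := hφ _ h1
    obtain ⟨x', hx'⟩ := hdiv x
    refine ⟨⟨w / φ x', by rw [map_div, hψφ, div_one, hw]⟩, ?_⟩
    change (w / φ x') ^ l = y.1
    rw [div_pow, ← map_pow, hx', hx, div_div_cancel]
  choose g hg using step
  let s : ∀ n, {y : T' ⟶ A' // ψ y = cp n z} := fun n =>
    Nat.rec ⟨1, by rw [map_one, cp_zero]⟩ (fun n y => g n y) n
  refine ⟨mk' (fun n => (s n).1) rfl fun n => hg n (s n), ext_cp fun n => (s n).2⟩

end

section rank

variable {S : Scheme.{u}} {A : Over S} [GrpObj A] [IsCommMonObj A] {T : Over S} {l : ℕ}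

/-- Torsion points are components, if the torsion is divisible. -/
theorem exists_cp_eq (hdiv : ∀ (n : ℕ) (x : T ⟶ A), x ^ (l ^ n) = 1 → ∃ y : T ⟶ A, y ^ l = x) (n : ℕ) (x : T ⟶ A)
    (hx : x ^ (l ^ n) = 1) : ∃ y : TateMod A l T, cp n y = x := by
  let P : Type u := {x : T ⟶ A // ∃ n : ℕ, x ^ (l ^ n) = 1}
  have hd : ∀ x : P, ∃ y : P, y.1 ^ l = x.1 := by
    rintro ⟨x, n, hx⟩
    obtain ⟨y, hy⟩ := hdiv n x hx
    exact ⟨⟨y, n + 1, by rw [pow_succ', pow_mul, hy, hx]⟩, hy⟩
  choose d hd using hd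
  let z : ℕ → P := fun m => d^[m] ⟨x, n, hx⟩
  have hz : ∀ m, (z (m + 1)).1 ^ l = (z m).1 := by
    intro m
    change (d^[m + 1] _).1 ^ l = _
    rw [Function.iterate_succ_apply', hd]
  have hz' : ∀ m, (z m).1 ^ (l ^ m) = x := by
    intro m
    induction m with
    | zero => rw [pow_zero, pow_one]; rfl
    | succ m ih => rw [pow_succ', pow_mul, hz, ih]
  refine ⟨mk' (fun m => (z m).1 ^ (l ^ n)) hx fun m => ?_, ?_⟩
  · rw [← hz m, ← pow_mul, ← pow_mul, Nat.mul_comm]
  · rw [cp_mk', hz']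

variable [hl : Fact l.Prime]

/-- The rank of the Tate module. -/
theorem finrank_of_card (hdiv : ∀ (n : ℕ) (x : T ⟶ A), x ^ (l ^ n) = 1 → ∃ y : T ⟶ A, y ^ l = x) (d : ℕ)
    (hcard : Nat.card (torsPts A l T) = l ^ d) : Module.finrank ℤ_[l] (TateMod A l T) = d := by
  have hfin : Finite (torsPts A l T) := Nat.finite_of_card_ne_zero (by
    rw [hcard]; exact pow_ne_zero _ hl.out.ne_zero)
  have := K510.TateMod.finite_of_finite hfin
  have := K510.TateMod.free_of_finite hfin
  let q : TateMod A l T →+ Additive (torsPts A l T) :=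
    { toFun := fun x => Additive.ofMul ⟨(TateMod.component A l T 1 x).toMul, by
        have := TateMod.component_mem x 1
        rwa [pow_one] at this⟩
      map_zero' := rfl
      map_add' := fun x y => rfl }
  have hq : Function.Surjective q := by
    intro x
    obtain ⟨y, hy⟩ := exists_cp_eq hdiv 1 x.toMul.1 (by
      rw [pow_one]; exact x.toMul.2)
    exact ⟨y, Subtype.ext hy⟩
  have h1 := K510.TateMod.card_quotient (l := l) (TateMod A l T) 1 q hq (by
    intro x
    rw [← K510.TateMod.val_eq_zero_iff]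
    constructor
    · intro h
      exact congrArg (fun z : Additive (torsPts A l T) => Additive.ofMul z.toMul.1) h
    · intro h
      exact Subtype.ext h)
  have h2 : Nat.card (Additive (torsPts A l T)) = Nat.card (torsPts A l T) := rfl
  rw [h2, hcard, pow_one] at h1
  exact (Nat.pow_right_injective hl.out.two_le h1).symm

end rank

end K222.TateGrp
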