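import Groth.Agent.Sga7.H729.Main
import Groth.Agent.SGA7.K222.TateGrp

/-!
# The image of `σ - 1` in the special fibre

An adaptation of `Sga7.H729.Core`: the points `σ z - z` of a level two action come from sections of the identity
component of the Néron model whose specialisation is killed by every homomorphism to a proper group.
-/

set_option autoImplicit false

universe u

open CategoryTheory MonoidalCategory CartesianMonoidalCategory MonObj GrpObj AlgebraicGeometry Limits TopologicalSpace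
open Groth.Agent.Sga7.H620.Growth Groth.Agent.Sga7.H620.Neutral Groth.Agent.Sga7.H620.Special
  Groth.Agent.Sga3.H778.NeutralOpen Groth.Agent.Grpsch.PicGrp Groth.Agent.Sga7.H729.Inputs

namespace K222.Core2

open Groth.Agent Groth.Agent.Sga7 Groth.Agent.Sga7.H729 Groth.Agent.Sga7.H729.Core

/-- A homomorphism from an affine smooth connected group to a proper group is trivial. -/
theorem eq_one_of_affine {F : Type u} [Field F] [IsAlgClosed F] {Y B : Over (Spec (CommRingCat.of F))} [GrpObj Y]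
    [GrpObj B] [IsAffine Y.left]
    [LocallyOfFiniteType Y.hom] [Smooth Y.hom] [ConnectedSpace Y.left] [IsProper B.hom] (j : Y ⟶ B) [IsMonHom j] :
    j = 1 := by
  by_contra hj
  obtain ⟨C, gC, q, i, hq, hi, hqi, hqf, hqs, hic, hCa, hCs, hCc, hCft, hCn⟩ :=
    Groth.Agent.Sga3.H783.Image.exists_image F Y B j
  refine Groth.Agent.Sga7.H620.NoGaCount.not_isProper_of_affine C (hCn hj) ?_
  rw [← Over.w i]
  infer_instance

section Main

variable (R K Ω : Type u) [CommRing R] [IsDomain R] [IsDiscreteValuationRing R] [HenselianLocalRing R]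
    [IsSepClosed (IsLocalRing.ResidueField R)] [Field K] [Algebra R K] [IsFractionRing R K]
    [Field Ω] [Algebra K Ω] [IsSepClosure K Ω]

include Ω in
/-- The dimensions of the generic and of the special fibre. -/
theorem exists_dims (N : Over (Spec (CommRingCat.of R)))
    [GrpObj N] (hN : SGA7.IsNeron R K N) [IsProper ((SGA7.genFib R K).obj N).hom]
    [GeometricallyIntegral ((SGA7.genFib R K).obj N).hom] (h0 : IsOpen (SGA3x.neutralSet N))
    [g0 : GrpObj (opn N (neutral N h0))] [m0 : IsMonHom (opnι N (neutral N h0))]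
    (F : Type u) [Field F] (t : Spec (CommRingCat.of F) ⟶ Spec (CommRingCat.of R)) :
    ∃ n : ℕ, topologicalKrullDim (Red.bc (Spec.map (CommRingCat.ofHom (algebraMap K Ω))) ((SGA7.genFib R K).obj N)).left = n ∧
      topologicalKrullDim (Red.bc t (opn N (neutral N h0))).left = n := by
  have hsm : Smooth N.hom := hN.1
  have hsm0 := smooth_neutral' N h0
  have hqc0 := quasiCompact_neutral N h0
  obtain ⟨n, hn⟩ := H620.DimSmooth.exists_dim (opn N (neutral N h0))
  refine ⟨n, ?_, hn _ t⟩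
  set fK := Spec.map (CommRingCat.ofHom (algebraMap R K)) with hfK
  set fΩ := Spec.map (CommRingCat.ofHom (algebraMap K Ω)) with hfΩ
  have i1 : GeometricallyIntegral (Red.bc fK N).hom := inferInstanceAs (GeometricallyIntegral ((SGA7.genFib R K).obj N).hom)
  have i1' : IsProper (Red.bc fK N).hom := inferInstanceAs (IsProper ((SGA7.genFib R K).obj N).hom)
  have i2 : IsIntegral (Red.bc fK N).left := GeometricallyIntegral.isIntegral_of_subsingleton (Red.bc fK N).hom
  have i3 : ConnectedSpace (Red.bc fK N).left := inferInstance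
  show topologicalKrullDim (Red.bc fΩ ((SGA7.genFib R K).obj N)).left = n
  let e : Red.bc (fΩ ≫ fK) N ≅ Red.bc fΩ (Red.bc fK N) := (Over.pullbackComp fΩ fK).app N
  have hcA : ConnectedSpace ↥(Red.bc fΩ (Red.bc fK N)).left := by
    have h1 : GeometricallyIrreducible (Red.bc fK N).hom := inferInstance
    have h2 : IrreducibleSpace ↥(pullback (Red.bc fK N).hom fΩ) :=
      h1.geometrically_irreducibleSpace fΩ _ _ (IsPullback.of_hasPullback _ _)
    exact inferInstanceAs (ConnectedSpace ↥(pullback (Red.bc fK N).hom fΩ))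
  have hc : ConnectedSpace ↥(Red.bc (fΩ ≫ fK) N).left := H620.NOS.connectedSpace_of_iso e.symm
  have hiso := isIso_bc_neutral N h0 (fΩ ≫ fK)
  change topologicalKrullDim (Red.bc fΩ (Red.bc fK N)).left = n
  rw [← H620.NOS.dim_eq_of_iso e,
    ← H620.NOS.dim_eq_of_iso (asIso ((Over.pullback (fΩ ≫ fK)).map (opnι N (neutral N h0)))),
    hn Ω (fΩ ≫ fK)]

/-- **The core statement.** -/
theorem core2 (l : ℕ) (hl : l.Prime) (hlp : (l : IsLocalRing.ResidueField R) ≠ 0) (N : Over (Spec (CommRingCat.of R)))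
    [GrpObj N] (hN : SGA7.IsNeron R K N) [IsProper ((SGA7.genFib R K).obj N).hom]
    [GeometricallyIntegral ((SGA7.genFib R K).obj N).hom]
    (hlev : ∀ (ν : ℕ) (σ τ : Ω ≃ₐ[K] Ω) (x : SGA7.Pts Ω ((SGA7.genFib R K).obj N)),
      x ^ (l ^ ν) = 1 → SGA7.dev σ (SGA7.dev τ x) = 1) (h0 : IsOpen (SGA3x.neutralSet N))
    [g0 : GrpObj (opn N (neutral N h0))] [m0 : IsMonHom (opnι N (neutral N h0))]
    (F : Type u) [Field F] [IsAlgClosed F] (t : Spec (CommRingCat.of F) ⟶ Spec (CommRingCat.of R))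
    (ht : t (IsLocalRing.closedPoint F) = IsLocalRing.closedPoint R) :
    (∀ j : Red.Ga (Spec (CommRingCat.of F)) ⟶ Red.bc t (opn N (neutral N h0)), IsMonHom j → IsClosedImmersion j.left →
      False) ∧
    ∀ (B : Over (Spec (CommRingCat.of F))) [GrpObj B] [IsProper B.hom] (q : Red.bc t (opn N (neutral N h0)) ⟶ B)
      [IsMonHom q] (σ : Ω ≃ₐ[K] Ω) (z : SGA7.Pts Ω ((SGA7.genFib R K).obj N)) (m : ℕ), z ^ (l ^ m) = 1 →
      ∃ g : 𝟙_ (Over (Spec (CommRingCat.of R))) ⟶ opn N (neutral N h0),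
        Dict.secΩ R K Ω N (g ≫ opnι N (neutral N h0)) = SGA7.dev σ z ∧
        bcPt t (opn N (neutral N h0)) g ≫ q = 1 := by
  have hO1 : Out1.{u} := H729.Main.out1
  have hO2 : Out2.{u} := CoreMain.out2
  have hC3 : C3.{u} := CoreMain.c3
  have hC4 : C4.{u} := CoreMain.c4
  have : IsSepClosed Ω := IsSepClosure.sep_closed (k := K) (K := Ω)
  have : Algebra.IsSeparable K Ω := IsSepClosure.separable
  have : IsGalois K Ω := inferInstance
  have cN : IsCommMonObj N := H751.SecRoot.isCommMonObj_of_isNeron R K N hN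
  have hsm : Smooth N.hom := hN.1
  have hsep : IsSeparated N.hom := hN.2.1
  have hqc : QuasiCompact N.hom := hN.2.2.1
  have c0 : IsCommMonObj (opn N (neutral N h0)) := H620.TorsCount.isCommMonObj_of_mono (opnι N (neutral N h0))
  have hsm0 := smooth_neutral' N h0
  have hqc0 := quasiCompact_neutral N h0
  have hsep0 : IsSeparated (opn N (neutral N h0)).hom := by
    rw [← Over.w (opnι N (neutral N h0))]
    infer_instance
  have hgi := geometricallyIrreducible_neutral N h0
  have hirr := isIrreducible_specialFibreSet _ hgi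
  obtain ⟨n, hn⟩ := H620.DimSmooth.exists_dim (opn N (neutral N h0))
  set fK := Spec.map (CommRingCat.ofHom (algebraMap R K)) with hfK
  set fΩ := Spec.map (CommRingCat.ofHom (algebraMap K Ω)) with hfΩ
  -- the generic fibre of the identity component
  have i1 : GeometricallyIntegral (Red.bc fK N).hom := inferInstanceAs (GeometricallyIntegral ((SGA7.genFib R K).obj N).hom)
  have i1' : IsProper (Red.bc fK N).hom := inferInstanceAs (IsProper ((SGA7.genFib R K).obj N).hom)
  have i2 : IsIntegral (Red.bc fK N).left := GeometricallyIntegral.isIntegral_of_subsingleton (Red.bc fK N).hom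
  have i3 : ConnectedSpace (Red.bc fK N).left := inferInstance
  have i4 : IsIso ((SGA7.genFib R K).map (opnι N (neutral N h0))) := isIso_bc_neutral N h0 fK
  have i5 : IsIso ((Over.pullback fK).map (opnι N (neutral N h0))).left :=
    inferInstanceAs (IsIso ((Over.forget _).map ((Over.pullback fK).map (opnι N (neutral N h0)))))
  have i6 : ((Over.pullback fK).map (opnι N (neutral N h0))).left ≫ (Red.bc fK N).hom =
      (Red.bc fK (opn N (neutral N h0))).hom := Over.w _
  have hK : IsProper ((SGA7.genFib R K).obj (opn N (neutral N h0))).hom := by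
    have : IsProper (Red.bc fK (opn N (neutral N h0))).hom := by
      rw [← i6]
      infer_instance
    exact this
  have hKi : GeometricallyIntegral ((SGA7.genFib R K).obj (opn N (neutral N h0))).hom := by
    have : GeometricallyIntegral (Red.bc fK (opn N (neutral N h0))).hom := by
      rw [← i6]
      exact (MorphismProperty.cancel_left_of_respectsIso (P := @GeometricallyIntegral) _ _).mpr i1
    exact this
  -- the geometric special fibre
  have hlk : (l : F) ≠ 0 := by
    have h1 : IsUnit (l : R) := H481.Tame.isUnit_of_residue_ne_zero hlp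
    obtain ⟨g, hg⟩ := Spec.map_surjective t
    have h2 := (h1.map g.hom).ne_zero
    rwa [map_natCast] at h2
  have hl1 : 1 ≤ l := hl.one_lt.le
  -- the dimension
  have hd : topologicalKrullDim (Red.bc fΩ ((SGA7.genFib R K).obj N)).left = n := by
    let e : Red.bc (fΩ ≫ fK) N ≅ Red.bc fΩ (Red.bc fK N) := (Over.pullbackComp fΩ fK).app N
    have hcA : ConnectedSpace ↥(Red.bc fΩ (Red.bc fK N)).left := by
      have h1 : GeometricallyIrreducible (Red.bc fK N).hom := inferInstance
      have h2 : IrreducibleSpace ↥(pullback (Red.bc fK N).hom fΩ) :=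
        h1.geometrically_irreducibleSpace fΩ _ _ (IsPullback.of_hasPullback _ _)
      exact inferInstanceAs (ConnectedSpace ↥(pullback (Red.bc fK N).hom fΩ))
    have hc : ConnectedSpace ↥(Red.bc (fΩ ≫ fK) N).left := H620.NOS.connectedSpace_of_iso e.symm
    have hiso := isIso_bc_neutral N h0 (fΩ ≫ fK)
    change topologicalKrullDim (Red.bc fΩ (Red.bc fK N)).left = n
    rw [← H620.NOS.dim_eq_of_iso e,
      ← H620.NOS.dim_eq_of_iso (asIso ((Over.pullback (fΩ ≫ fK)).map (opnι N (neutral N h0)))),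
      hn Ω (fΩ ≫ fK)]
  have cA : IsCommMonObj ((SGA7.genFib R K).obj N) := inferInstanceAs (IsCommMonObj (Red.bc fK N))
  have hlΩ : ∀ m : ℕ, ((l ^ m : ℕ) : Ω) ≠ 0 := by
    intro m
    rw [Nat.cast_pow]
    refine pow_ne_zero _ ?_
    have h1 : (l : R) ≠ 0 := by
      intro h1
      apply hlp
      rw [← map_natCast (IsLocalRing.residue R), h1, map_zero]
    have h2 : (l : K) ≠ 0 := by
      rw [← map_natCast (algebraMap R K)]
      exact (map_ne_zero_iff _ (IsFractionRing.injective R K)).mpr h1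
    rw [← map_natCast (algebraMap K Ω)]
    exact (map_ne_zero_iff _ (algebraMap K Ω).injective).mpr h2
  -- the radical
  set W₀ : Subgroup (SGA7.Pts Ω ((SGA7.genFib R K).obj N)) := WΩ ((SGA7.genFib R K).obj N) l with hW₀
  have hfix : W₀ ≤ Fix ((SGA7.genFib R K).obj N) := Radical.WΩ_le_Fix _ l hlev
  have hdiv₀ : ∀ w ∈ W₀, ∃ v ∈ W₀, v ^ l = w :=
    Radical.WΩ_divisible _ l (Radical.exists_root l (2 * n) hl1 fun m =>
      Radical.card_pts _ n hd (l ^ m) (hlΩ m))
  have htor₀ : ∀ w ∈ W₀, ∃ m : ℕ, w ^ (l ^ m) = 1 := Radical.WΩ_torsion _ l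
  have hTL₀ : TL (↥W₀ × ↥(Fix (Ω := Ω) ((SGA7.genFib R K).obj N))) l (2 * n) :=
    hO2 R K Ω l hl hlp _ n hd hlev
  -- sections
  set φ : (𝟙_ (Over (Spec (CommRingCat.of R))) ⟶ N) →* SGA7.Pts Ω ((SGA7.genFib R K).obj N) :=
    Dict.secΩ R K Ω N with hφ
  have hφi : Function.Injective φ := Dict.secΩ_injective R K Ω N hN
  have hφF : ∀ x, x ∈ Fix (Ω := Ω) ((SGA7.genFib R K).obj N) ↔ ∃ g, φ g = x := fun x =>
    (Dict.exists_secΩ_iff R K Ω N hN x).symm
  let θ : (𝟙_ (Over (Spec (CommRingCat.of R))) ⟶ opn N (neutral N h0)) →*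
      SGA7.Pts Ω ((SGA7.genFib R K).obj N) := φ.comp (postHom _ (opnι N (neutral N h0)))
  have hθi : Function.Injective θ := hφi.comp fun x y hxy => (cancel_mono (opnι N (neutral N h0))).mp hxy
  have hlift : ∀ x ∈ W₀, ∃ w, θ w = x := by
    intro x hx
    obtain ⟨r, hr⟩ := (hφF x).1 (hfix hx)
    obtain ⟨w, hw⟩ := CoreAux.exists_lift_of_divisible N h0 t ht (W₀.comap φ) hl
      (fun w hw => by
        obtain ⟨v, hv, hvw⟩ := hdiv₀ _ (Subgroup.mem_comap.1 hw)
        obtain ⟨v', hv'⟩ := (hφF v).1 (hfix hv)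
        refine ⟨v', ?_, ?_⟩
        · rw [Subgroup.mem_comap, hv']
          exact hv
        · apply hφi
          rw [map_pow, hv', hvw])
      (fun w hw => by
        obtain ⟨m, hm⟩ := htor₀ _ (Subgroup.mem_comap.1 hw)
        exact ⟨m, hφi (by rw [map_pow, hm, map_one])⟩) r (by rw [Subgroup.mem_comap, hr]; exact hx)
    refine ⟨w, ?_⟩
    change φ (w ≫ opnι N (neutral N h0)) = x
    rw [hw, hr]
  let W_G : Subgroup (𝟙_ (Over (Spec (CommRingCat.of R))) ⟶ opn N (neutral N h0)) := W₀.comap θ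
  let eW : W_G ≃* W₀ := MulEquiv.ofBijective ((θ.comp W_G.subtype).codRestrict W₀ (fun w => w.2))
    ⟨fun x y hxy => Subtype.ext (hθi (congrArg Subtype.val hxy)), fun x => by
      obtain ⟨w, hw⟩ := hlift x.1 x.2
      refine ⟨⟨w, ?_⟩, Subtype.ext hw⟩
      rw [Subgroup.mem_comap, hw]
      exact x.2⟩
  let eP : (𝟙_ (Over (Spec (CommRingCat.of R))) ⟶ N) ≃* Fix (Ω := Ω) ((SGA7.genFib R K).obj N) :=
    MulEquiv.ofBijective (φ.codRestrict _ (fun w => (hφF _).2 ⟨w, rfl⟩))
    ⟨fun x y hxy => hφi (congrArg Subtype.val hxy), fun x => by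
      obtain ⟨w, hw⟩ := (hφF x.1).1 x.2
      exact ⟨w, Subtype.ext hw⟩⟩
  set H := Red.bc t (opn N (neutral N h0)) with hH
  let bp : (𝟙_ (Over (Spec (CommRingCat.of R))) ⟶ opn N (neutral N h0)) →* (𝟙_ _ ⟶ H) := bcPt t (opn N (neutral N h0))
  let W_H : Subgroup (𝟙_ _ ⟶ H) := W_G.map bp
  have hbp : ∀ (m : ℕ) (x : 𝟙_ (Over (Spec (CommRingCat.of R))) ⟶ opn N (neutral N h0)),
      x ^ (l ^ m) = 1 → bp x = 1 → x = 1 := by
    intro m x hx hx'
    have h1 : toUnit (CoreAux.TT t) ≫ x = 1 :=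
      (map_eq_one_iff _ (Sga3B.BcPts.bcMulEquiv t (𝟙_ _) (opn N (neutral N h0))).injective).1 hx'
    exact eq_one_of_special (l ^ m) (CoreAux.etale_pow_pow _ hlp m) (CoreAux.TT t) (CoreAux.tt t)
      (CoreAux.hom_tt t ht) x hx h1
  have hTL : TL (↥W_H × (𝟙_ _ ⟶ H)) l (2 * n) := by
    have h1 : TL (↥W₀ × (𝟙_ (Over (Spec (CommRingCat.of R))) ⟶ N)) l (2 * n) :=
      CoreAux.TL_prod_of_injOn eP.symm.toMonoidHom (fun m x _ hx' =>
        (map_eq_one_iff _ eP.symm.injective).1 hx') hTL₀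
    have h2 : TL (↥W₀ × (𝟙_ _ ⟶ H)) l (2 * n) := CoreAux.TL_prod_bc N h0 t ht hlp h1
    refine CoreAux.TL_prod_left_of_injOn ((bp.subgroupMap W_G).comp eW.symm.toMonoidHom) (fun m x hx hx' => ?_) h2
    have h3 : bp (eW.symm x).1 = 1 := congrArg Subtype.val hx'
    have h4 : (eW.symm x).1 ^ (l ^ m) = 1 := by
      have : (eW.symm x) ^ (l ^ m) = 1 := by rw [← map_pow, hx, map_one]
      exact congrArg Subtype.val this
    have h5 : eW.symm x = 1 := Subtype.ext (hbp m _ h4 h3)
    exact (map_eq_one_iff _ eW.symm.injective).1 h5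
  have hdivH : ∀ w ∈ W_H, ∃ v ∈ W_H, v ^ l = w := by
    rintro _ ⟨w, hw, rfl⟩
    obtain ⟨v, hv, hvw⟩ := hdiv₀ _ (Subgroup.mem_comap.1 hw)
    obtain ⟨v', hv'⟩ := hlift v hv
    refine ⟨bp v', ⟨v', ?_, rfl⟩, ?_⟩
    · change v' ∈ W₀.comap θ
      rw [Subgroup.mem_comap, hv']
      exact hv
    · rw [← map_pow]
      congr 1
      apply hθi
      rw [map_pow, hv', hvw]
  have htorH : ∀ w ∈ W_H, ∃ m : ℕ, w ^ (l ^ m) = 1 := by
    rintro _ ⟨w, hw, rfl⟩
    obtain ⟨m, hm⟩ := htor₀ _ (Subgroup.mem_comap.1 hw)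
    refine ⟨m, ?_⟩
    rw [← map_pow]
    have h1 : w ^ (l ^ m) = 1 := hθi (by rw [map_pow, hm, map_one])
    rw [h1, map_one]
  -- the ample class
  obtain ⟨L, hL⟩ := exists_ample R K (opn N (neutral N h0)) hirr
  have haff : IsAffineHom (pullback.fst (opn N (neutral N h0)).hom t) :=
    MorphismProperty.pullback_fst (P := @IsAffineHom) _ _ (isAffineHom_of_isAffine t)
  have hM : CohB1.IsAmple ((Scheme.Modules.pullback (pullback.fst (opn N (neutral N h0)).hom t)).obj L) :=
    CalgB.AmpleBase.isAmple_pullback _ hL fun _ => ⟨⊤, trivial, fun _ _ hV => hV.preimage _⟩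
  have hinv : ∀ w ∈ W_H, w ∈ CoreAux.fixing (G := H) (mk _ hM.1) := by
    let Inv : Subgroup (𝟙_ (Over (Spec (CommRingCat.of R))) ⟶ opn N (neutral N h0)) :=
      (CoreAux.fixing (G := H) (mk _ hM.1)).comap bp
    have h1 : W₀ ≤ Inv.map θ := by
      refine (Subgroup.closure_le _).2 ?_
      rintro _ ⟨σ, z, m, hz, rfl⟩
      obtain ⟨w, hw⟩ := hlift (SGA7.dev σ z) (Subgroup.subset_closure ⟨σ, z, m, hz, rfl⟩)
      refine ⟨w, ?_, hw⟩
      have h2 : Dict.secΩ R K Ω (opn N (neutral N h0)) w =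
          SGA7.dev σ (z ≫ inv ((SGA7.genFib R K).map (opnι N (neutral N h0)))) := by
        rw [← cancel_mono ((SGA7.genFib R K).map (opnι N (neutral N h0))), ← secΩ_comp, ← Cond.dev_comp,
          Category.assoc, IsIso.inv_hom_id, Category.comp_id]
        exact hw
      have h3 := hO1 R K Ω (opn N (neutral N h0)) hsm0 hsep0 hqc0 hgi hirr (mk L hL.1) w σ _ h2 _ t ht
      exact h3
    rintro _ ⟨w, hw, rfl⟩
    obtain ⟨w', hw', hww'⟩ := h1 (Subgroup.mem_comap.1 hw)
    rw [hθi hww'] at hw'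
    exact hw'
  -- the closure
  have sH : Smooth H.hom := inferInstanceAs (Smooth (pullback.snd (opn N (neutral N h0)).hom t))
  have qH : QuasiCompact H.hom := inferInstanceAs (QuasiCompact (pullback.snd (opn N (neutral N h0)).hom t))
  have pH : IsSeparated H.hom := inferInstanceAs (IsSeparated (pullback.snd (opn N (neutral N h0)).hom t))
  have kH : ConnectedSpace ↥H.left := connectedSpace_bc_neutral N h0 t
  have cH : IsCommMonObj H := inferInstance
  obtain ⟨Y, gY, i, hi, hci, sY, qY, kY, hlY, hdY⟩ :=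
    Closure.exists_closure_connected H W_H l hl hdivH htorH
  have hmi : Mono i := Over.mono_of_mono_left i
  have cY : IsCommMonObj Y := H620.TorsCount.isCommMonObj_of_mono i
  have pY : IsSeparated Y.hom := by
    rw [← Over.w i]
    infer_instance
  have hLY : CohB1.IsAmple ((Scheme.Modules.pullback i.left).obj
      ((Scheme.Modules.pullback (pullback.fst (opn N (neutral N h0)).hom t)).obj L)) :=
    CalgB.AmpleBase.isAmple_pullback i.left hM fun _ => ⟨⊤, trivial, fun _ _ hV => hV.preimage i.left⟩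
  have hii : Function.Injective (postHom (𝟙_ _) i) := fun x y hxy => (cancel_mono i).mp hxy
  have aY : IsAffine Y.left := by
    refine hC3 _ Y sY qY pY kY _ hLY (W_H.comap (postHom (𝟙_ _) i)) hdY l hl hlk ?_ ?_ ?_
    · intro w hw
      obtain ⟨m, hm⟩ := htorH _ (Subgroup.mem_comap.1 hw)
      exact ⟨m, hii (by rw [map_pow, hm, map_one])⟩
    · intro w hw
      obtain ⟨v, hv, hvw⟩ := hdivH _ (Subgroup.mem_comap.1 hw)
      obtain ⟨v', hv'⟩ := hlY v hv
      have hv'' : postHom (𝟙_ _) i v' = v := hv'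
      refine ⟨v', ?_, hii ?_⟩
      · rw [Subgroup.mem_comap, hv'']
        exact hv
      · rw [map_pow, hv'', hvw]
    · intro w hw
      exact CoreAux.pull_tr_comp i w (hinv _ (Subgroup.mem_comap.1 hw))
  refine ⟨hC4 _ l hl hlk H n (hn _ t) Y i W_H hlY hTL, ?_⟩
  intro B _ _ q _ σ z m hz
  have hw₀ : SGA7.dev σ z ∈ W₀ := Subgroup.subset_closure ⟨σ, z, m, hz, rfl⟩
  obtain ⟨w, hw⟩ := hlift _ hw₀
  refine ⟨w, hw, ?_⟩
  have hwW : bp w ∈ W_H := ⟨w, by
    change w ∈ W₀.comap θ
    rw [Subgroup.mem_comap, hw]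
    exact hw₀, rfl⟩
  obtain ⟨y, hy⟩ := hlY _ hwW
  have hft : LocallyOfFiniteType Y.hom := inferInstance
  have h1 : i ≫ q = 1 := eq_one_of_affine (i ≫ q)
  change bp w ≫ q = 1
  rw [← hy, Category.assoc, h1, MonObj.comp_one]

end Main

end K222.Core2
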