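import Groth.Agent.SGA7.K222.InfPt

/-!
# Frobenius and geometric points

A geometric point `t : Spec F → Spec R` over the closed point of a local ring, `s` an endomorphism of `R` with
`s r ≡ r ^ Q` modulo the maximal ideal: `Frob_Q ≫ t = t ≫ Spec s`.
-/

set_option autoImplicit false
universe u

open CategoryTheory AlgebraicGeometry

namespace K222.GeoFrob

open InfPt

variable {R : Type u} [CommRing R] [IsLocalRing R] {F : Type u} [Field F]

/-- the ring map of a geometric point kills the maximal ideal -/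
theorem map_eq_zero (g : R →+* F)
    (ht : Spec.map (CommRingCat.ofHom g) (IsLocalRing.closedPoint F) = IsLocalRing.closedPoint R) (r : R)
    (hr : r ∈ IsLocalRing.maximalIdeal R) : g r = 0 := by
  have h1 : (IsLocalRing.closedPoint R).asIdeal = IsLocalRing.maximalIdeal R := rfl
  rw [← h1, ← ht] at hr
  have h2 : r ∈ (PrimeSpectrum.comap g (IsLocalRing.closedPoint F)).asIdeal := hr
  rw [PrimeSpectrum.comap_asIdeal, Ideal.mem_comap] at h2
  have h3 : (IsLocalRing.closedPoint F).asIdeal = ⊥ := by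
    change IsLocalRing.maximalIdeal F = ⊥
    exact IsLocalRing.isField_iff_maximalIdeal_eq.mp (Field.toIsField F)
  rw [h3, Ideal.mem_bot] at h2
  exact h2

/-- a morphism of the spectrum of a field which is a `Q`-Frobenius -/
theorem frob_apply {Q : ℕ} (ψ : F →+* F) (h : K520.Frob.IsFrob Q (Spec.map (CommRingCat.ofHom ψ))) (a : F) :
    ψ a = a ^ Q := by
  have h1 := h.app ⊤ ((Scheme.ΓSpecIso (CommRingCat.of F)).inv.hom a)
  have h2 : (Spec.map (CommRingCat.ofHom ψ)).appLE ⊤ ⊤ (h.le ⊤) = (Spec.map (CommRingCat.ofHom ψ)).appTop :=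
    Scheme.Hom.appLE_eq_app _ (U := ⊤)
  rw [h2, ← map_pow] at h1
  have h3 := Scheme.ΓSpecIso_inv_naturality (CommRingCat.ofHom ψ)
  have h4 : (Spec.map (CommRingCat.ofHom ψ)).appTop.hom ((Scheme.ΓSpecIso (CommRingCat.of F)).inv.hom a) =
      (Scheme.ΓSpecIso (CommRingCat.of F)).inv.hom (ψ a) := (congr($(h3).hom a)).symm
  rw [h4] at h1
  exact (ConcreteCategory.bijective_of_isIso (Scheme.ΓSpecIso (CommRingCat.of F)).inv).1 h1

theorem comp_eq (t : Spec (CommRingCat.of F) ⟶ Spec (CommRingCat.of R))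
    (ht : t (IsLocalRing.closedPoint F) = IsLocalRing.closedPoint R) {Q : ℕ} (s : R →+* R)
    (hs : ∀ r, s r - r ^ Q ∈ IsLocalRing.maximalIdeal R)
    (ρ : Spec (CommRingCat.of F) ⟶ Spec (CommRingCat.of F)) (hρ : K520.Frob.IsFrob Q ρ) :
    ρ ≫ t = t ≫ Spec.map (CommRingCat.ofHom s) := by
  obtain ⟨g, rfl⟩ := Spec.map_surjective t
  obtain ⟨ψ, rfl⟩ := Spec.map_surjective ρ
  rw [← Spec.map_comp, ← Spec.map_comp]
  congr 1
  ext r
  change ψ.hom (g.hom r) = g.hom (s r)
  have h1 : ψ.hom (g.hom r) = (g.hom r) ^ Q := frob_apply ψ.hom hρ _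
  have h2 : g.hom (s r - r ^ Q) = 0 := map_eq_zero g.hom ht _ (hs r)
  rw [h1, ← map_pow, ← sub_eq_zero, ← map_sub, ← neg_eq_zero, ← map_neg, neg_sub]
  exact h2

/-- the characteristic of the geometric point -/
theorem frobOK (t : Spec (CommRingCat.of F) ⟶ Spec (CommRingCat.of R))
    (ht : t (IsLocalRing.closedPoint F) = IsLocalRing.closedPoint R) {Q : ℕ}
    (hQ : Q = 1 ∨ ∃ p a : ℕ, p.Prime ∧ (p : IsLocalRing.ResidueField R) = 0 ∧ Q = p ^ a) : FrobOK F Q := by
  rcases hQ with rfl | ⟨p, a, hp, h0, rfl⟩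
  · exact Or.inl rfl
  · refine Or.inr ⟨p, a, hp, ?_, rfl⟩
    obtain ⟨g, rfl⟩ := Spec.map_surjective t
    have h1 : (p : R) ∈ IsLocalRing.maximalIdeal R := by
      rw [← IsLocalRing.residue_eq_zero_iff, map_natCast, h0]
    have h2 := map_eq_zero g.hom ht _ h1
    rw [map_natCast] at h2
    have := Fact.mk hp
    exact (CharP.charP_iff_prime_eq_zero hp).2 h2

end K222.GeoFrob
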