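import Groth.Agent.SGA7.K222.TorusTate
import Groth.Prelude.Def_AlgGrp
import Mathlib.AlgebraicGeometry.Geometrically.Integral

/-!
# Endomorphisms of semiabelian varieties: the structure
-/

set_option autoImplicit false
universe u

open CategoryTheory MonoidalCategory CartesianMonoidalCategory MonObj AlgebraicGeometry AbDual Limits

namespace K222.StrDef

open TateGrp TorusTate

variable {F : Type u} [Field F]

/-- an extension of an abelian variety by a torus, with an endomorphism -/
structure Str (H : Over (Spec (CommRingCat.of F))) [GrpObj H] [IsCommMonObj H] (u : H ⟶ H) (Q n : ℕ) where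
  r : ℕ
  a : ℕ
  i : D F r ⟶ H
  hi : IsMonHom i
  B : Over (Spec (CommRingCat.of F))
  gB : GrpObj B
  cB : IsCommMonObj B
  q : H ⟶ B
  hq : IsMonHom q
  ci : IsClosedImmersion i.left
  pB : IsProper B.hom
  giB : GeometricallyIntegral B.hom
  sB : Smooth B.hom
  sq : Surjective q.left
  hker : AlgGrp.IsKernel i q
  hn : n = a + r
  ha : topologicalKrullDim B.left = a
  φ : (Fin r → ℤ) →+ (Fin r → ℤ)
  hφ : i ≫ u = Red.DSmap (Spec (CommRingCat.of F)) φ ≫ i
  uB : B ⟶ B
  huB : IsMonHom uB
  hquB : q ≫ uB = u ≫ q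
  M : Matrix (Fin r) (Fin r) ℤ
  hM : mat φ = (Q : ℤ) • M

attribute [instance] Str.hi Str.gB Str.cB Str.hq Str.ci Str.pB Str.giB Str.sB Str.sq Str.huB

end K222.StrDef
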