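import Groth.Agent.SGA7.K222.InfPt
import Groth.Agent.SGA7.K222.StrDef
import Groth.Agent.SGA7.K222.CharLin
import Groth.Agent.Sga7.H109.Struct
import Groth.Agent.Sga7.H620.NoGaCount
import Groth.Agent.Sga3.H816.TorusDim
import Groth.Agent.Sga3.H805.Det
import Groth.Agent.Sga3B.BorLoc613
import Groth.Agent.AbVar.K519.PolyA
import Groth.Agent.AbVar.K519.CharThms
import Groth.Agent.Etcore.AbTors

/-!
# Endomorphisms of semiabelian varieties

`H` a smooth connected commutative group over the algebraically closed field `F` without closed `𝔾ₐ`, `u` an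
endomorphism killing the infinitesimal points with values in `F[x]/(x^Q)`: the Tate modules of `H`, of its torus and of
its abelian quotient, with the characteristic polynomials of `u` on the last two.
-/

set_option autoImplicit false
universe u

open CategoryTheory MonoidalCategory CartesianMonoidalCategory MonObj AlgebraicGeometry AbDual Limits Polynomial

namespace K222.HSt

open StrDef TateGrp TorusTate InfPt Groth.Agent.Sga7.H109 Groth.Agent.Sga7.H109.Torsion Groth.Agent.Sga3.H794.ChevKer
  Groth.Agent.Sga7.H109.Struct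

variable {F : Type u} [Field F] [IsAlgClosed F]

/-- A homomorphism from an affine smooth connected group to a proper group is trivial. -/
theorem eq_one_of_affine {Y B : Over (Spec (CommRingCat.of F))} [GrpObj Y] [GrpObj B] [IsAffine Y.left]
    [LocallyOfFiniteType Y.hom] [Smooth Y.hom] [ConnectedSpace Y.left] [IsProper B.hom] (j : Y ⟶ B) [IsMonHom j] :
    j = 1 := by
  by_contra hj
  obtain ⟨C, gC, q, i, hq, hi, hqi, hqf, hqs, hic, hCa, hCs, hCc, hCft, hCn⟩ :=
    Groth.Agent.Sga3.H783.Image.exists_image F Y B j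
  refine Groth.Agent.Sga7.H620.NoGaCount.not_isProper_of_affine C (hCn hj) ?_
  rw [← Over.w i]
  infer_instance

/-- An endomorphism of a split torus over a field comes from an endomorphism of the character group. -/
theorem exists_DSmap {r : ℕ} (f : D F r ⟶ D F r) [IsMonHom f] :
    ∃ φ : (Fin r → ℤ) →+ (Fin r → ℤ), f = Red.DSmap (Spec (CommRingCat.of F)) φ := by
  obtain ⟨g, hg, φ, hφ⟩ := Groth.Agent.Sga3B.BorLoc613.exists_affine (R := F) f (⊥ : Ideal F)
  refine ⟨φ, ?_⟩
  have hg0 : g ≠ 0 := fun h => hg h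
  have h := hφ (D F r) (𝟙 _) ((isUnit_iff_ne_zero.2 hg0).map _)
  rwa [Category.id_comp, Category.id_comp] at h

theorem exists_str (H : Over (Spec (CommRingCat.of F))) [GrpObj H] [IsCommMonObj H] [Smooth H.hom]
    [QuasiCompact H.hom] [ConnectedSpace H.left] (hno : Groth.Agent.Sga7.H109.Basic.NoGa H) (n : ℕ) (hn : topologicalKrullDim H.left = n)
    (u : H ⟶ H) [IsMonHom u] {Q : ℕ} (hQ : FrobOK F Q)
    (hu : ∀ x : T F Q ⟶ H, t0 hQ.ne_zero ≫ x = 1 → x ≫ u = 1) : Nonempty (Str H u Q n) := by
  obtain ⟨r, i, B, gB, q, hi, ci, hq, sq, fq, hker, pB, sB, kB⟩ := exists_semiabelian H hno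
  have lfp := locallyOfFinitePresentation_left q
  have e1 : Epi (q ⊗ₘ q) := by
    have f2 : Flat (q ⊗ₘ q).left := Groth.Agent.Sga3C.QuotProps.tensorHom_left_of (@Flat) q q ‹_› ‹_›
    have s2 : Surjective (q ⊗ₘ q).left := Groth.Agent.Sga3C.QuotProps.tensorHom_left_of (@Surjective) q q ‹_› ‹_›
    exact Groth.Agent.Sga3C.QuotProps.epi_of_flat_surjective _
  have cB : IsCommMonObj B := Groth.Agent.Sga7.H620.TorsCount.isCommMonObj_of_epi q
  have giB : GeometricallyIntegral B.hom := Groth.Agent.Sga3.H794.ChevProper.geometricallyIntegral B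
  have hmono : Mono i := Groth.Agent.Books.AlgPtsGrp.mono_of_isClosedImmersion i
  -- dimension
  have ftD : LocallyOfFiniteType (D F r).hom := by
    rw [← Over.w i]
    infer_instance
  obtain ⟨a, b, hab, ha, hb⟩ := Groth.Agent.Sga7.H620.NoGaCount.exists_nat_dims i q hker n hn
  have hbr : b = r := by
    have h1 := Groth.Agent.Sga3.H816.TorusDim.topologicalKrullDim_DS F r
    rw [hb] at h1
    exact_mod_cast h1
  subst hbr
  -- the torus
  have hsm : Smooth (D F b).hom := by
    have h1 : Smooth (Red.diag (ULift.{u} ℤ) (Fin b → ℤ)).hom := Groth.Agent.Sga3B.TorusAlgClosed.diag_smooth (Fin b → ℤ)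
    change Smooth (pullback.snd _ _)
    infer_instance
  have haffh : IsAffineHom (D F b).hom := by
    change IsAffineHom (pullback.snd _ _)
    infer_instance
  have haff : IsAffine (D F b).left := isAffine_of_isAffineHom (D F b).hom
  have hint : IsIntegral (D F b).left := Groth.Agent.Sga3.H805.Det.isIntegral_DS F b
  have hconn : ConnectedSpace (D F b).left := inferInstance
  have h1 : i ≫ u ≫ q = 1 := eq_one_of_affine (i ≫ u ≫ q)
  obtain ⟨uT, huT⟩ := exists_lift_ker hker (i ≫ u) (by rw [Category.assoc, h1])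
  have mT : IsMonHom uT := by
    apply Groth.Agent.Sga3B.Pts.isMonHom_of_points
    intro X x y
    rw [← cancel_mono i]
    rw [Category.assoc, huT, MonObj.mul_comp x y (i ≫ u), MonObj.mul_comp (x ≫ uT) (y ≫ uT) i, Category.assoc,
      Category.assoc, huT]
  obtain ⟨φ, rfl⟩ := exists_DSmap uT
  obtain ⟨uB, huB, hquB⟩ := exists_desc_hom i q hker (u ≫ q) h1
  -- divisibility
  have hdvd : ∀ m j, (Q : ℤ) ∣ φ m j := fun m j => dvd_of_kills hQ φ (fun x hx => by
    rw [← cancel_mono i, Category.assoc, huT, ← Category.assoc, hu (x ≫ i) (by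
      rw [← Category.assoc, hx, MonObj.one_comp]), MonObj.one_comp]) m j
  choose c hc using fun k j => hdvd (Pi.single k 1) j
  exact ⟨{ r := b, a := a, i := i, hi := hi, B := B, gB := gB, cB := cB, q := q, hq := hq, ci := ci, pB := pB,
            giB := giB, sB := sB, sq := sq, hker := hker, hn := hab, ha := ha, φ := φ, hφ := huT.symm, uB := uB,
            huB := huB, hquB := hquB, M := Matrix.of c, hM := by
              ext k j
              rw [Matrix.smul_apply, Matrix.of_apply, smul_eq_mul, ← hc]
              rfl }⟩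

end K222.HSt
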