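import Groth.Agent.SGA7.K222.TorusTate
import Groth.Agent.AbVar.K520.Frob
import Mathlib.Algebra.CharP.Lemmas
import Mathlib.Algebra.CharP.Algebra
import Mathlib.Algebra.Polynomial.Div
import Mathlib.AlgebraicGeometry.AffineScheme

/-!
# Infinitesimal points and Frobenius

`A = F[x]/(x^Q)`, `Q` a power of the characteristic exponent: the `Q`-Frobenius of `Spec A` factors through the closed
point; an endomorphism `D(φ)` of a split torus killing the points with values in `A` which are trivial at the closed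
point has `φ` divisible by `Q`.
-/

set_option autoImplicit false
universe u

open CategoryTheory MonoidalCategory CartesianMonoidalCategory MonObj AlgebraicGeometry

namespace K222.InfPt

open TorusTate Groth.Agent.Sga3B.DSPts

/-- `Q` is a power of the characteristic exponent of `F`. -/
def FrobOK (F : Type u) [Field F] (Q : ℕ) : Prop := Q = 1 ∨ ∃ p a : ℕ, p.Prime ∧ CharP F p ∧ Q = p ^ a

theorem FrobOK.ne_zero {F : Type u} [Field F] {Q : ℕ} (h : FrobOK F Q) : Q ≠ 0 := by
  rcases h with rfl | ⟨p, a, hp, -, rfl⟩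
  · exact one_ne_zero
  · exact pow_ne_zero _ hp.ne_zero

theorem FrobOK.add_pow {F : Type u} [Field F] {Q : ℕ} (h : FrobOK F Q) {B : Type*} [CommRing B] [Algebra F B]
    (x y : B) : (x + y) ^ Q = x ^ Q + y ^ Q := by
  rcases h with rfl | ⟨p, a, hp, hF, rfl⟩
  · simp
  · have := Fact.mk hp
    rcases subsingleton_or_nontrivial B with hB | hB
    · exact Subsingleton.elim _ _
    have : CharP B p := charP_of_injective_algebraMap (algebraMap F B).injective p
    exact add_pow_char_pow x y p a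

/-- Existence of the `Q`-Frobenius. -/
theorem FrobOK.exists_isFrob {F : Type u} [Field F] {Q : ℕ} (h : FrobOK F Q) {X : Scheme.{u}}
    (f : X ⟶ Spec (CommRingCat.of F)) : ∃ π : X ⟶ X, K520.Frob.IsFrob Q π := by
  rcases h with rfl | ⟨p, a, hp, hF, rfl⟩
  · exact ⟨𝟙 X, K520.Frob.isFrob_id X⟩
  · have := Fact.mk hp
    have : FrobSch.IsCharP X p := FrobSch.IsCharP.of_hom f p
    exact K520.Frob.exists_isFrob_pow X p a

variable (F : Type u) [Field F] (Q : ℕ)

/-- the ring `F[x]/(x^Q)` -/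
abbrev A : Type u := Polynomial F ⧸ Ideal.span {(Polynomial.X : Polynomial F) ^ Q}

/-- the class of `x` -/
noncomputable def xx : A F Q := Ideal.Quotient.mk _ Polynomial.X

theorem xx_pow : xx F Q ^ Q = 0 := by
  rw [xx, ← map_pow, Ideal.Quotient.eq_zero_iff_mem]
  exact Ideal.subset_span rfl

variable {F Q}

/-- evaluation at `0` -/
noncomputable def ev (hQ : Q ≠ 0) : A F Q →ₐ[F] F :=
  Ideal.Quotient.liftₐ _ (Polynomial.aeval (0 : F)) (by
    intro a ha
    obtain ⟨b, rfl⟩ := Ideal.mem_span_singleton'.1 ha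
    rw [map_mul, map_pow, Polynomial.aeval_X, zero_pow hQ, mul_zero])

theorem ev_mk (hQ : Q ≠ 0) (f : Polynomial F) : ev (F := F) hQ (Ideal.Quotient.mk _ f) = f.coeff 0 := by
  have : ev (F := F) hQ (Ideal.Quotient.mk _ f) = Polynomial.aeval (0 : F) f := rfl
  rw [this, Polynomial.coeff_zero_eq_aeval_zero]

theorem ev_xx (hQ : Q ≠ 0) : ev (F := F) hQ (xx F Q) = 0 := by
  rw [xx, ev_mk, Polynomial.coeff_X_zero]

/-- Frobenius on `A` -/
theorem pow_Q (h : FrobOK F Q) (a : A F Q) : a ^ Q = algebraMap F (A F Q) (ev h.ne_zero a ^ Q) := by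
  obtain ⟨f, rfl⟩ := Ideal.Quotient.mk_surjective a
  have h1 : f = f.divX * Polynomial.X + Polynomial.C (f.coeff 0) := (Polynomial.divX_mul_X_add f).symm
  have h2 : (Ideal.Quotient.mk (Ideal.span {(Polynomial.X : Polynomial F) ^ Q}) f) =
      Ideal.Quotient.mk _ f.divX * xx F Q + algebraMap F (A F Q) (f.coeff 0) := by
    conv_lhs => rw [h1]
    rw [map_add, map_mul]
    rfl
  rw [ev_mk, h2, h.add_pow, mul_pow, xx_pow, mul_zero, zero_add, map_pow]

/-- the unit `1 + x` -/
noncomputable def uu (h : FrobOK F Q) : (A F Q)ˣ := 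
  Units.ofPowEqOne (1 + xx F Q) Q (by
    rw [pow_Q h, map_add, map_one, ev_xx, add_zero, one_pow, map_one]) h.ne_zero

theorem uu_val (h : FrobOK F Q) : (uu h : A F Q) = 1 + xx F Q := rfl

theorem dvd_of_zpow (h : FrobOK F Q) (d : ℤ) (hd : uu h ^ d = 1) : (Q : ℤ) ∣ d := by
  rcases h with rfl | ⟨p, a, hp, hF, rfl⟩
  · exact one_dvd d
  have := Fact.mk hp
  have h' : FrobOK F (p ^ a) := Or.inr ⟨p, a, hp, hF, rfl⟩
  have hA : Nontrivial (A F (p ^ a)) := (ev (F := F) h'.ne_zero).toRingHom.domain_nontrivial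
  have : CharP (A F (p ^ a)) p := charP_of_injective_algebraMap (algebraMap F (A F (p ^ a))).injective p
  have h1 : orderOf (uu h') = p ^ a := by
    cases a with
    | zero =>
      refine (orderOf_eq_one_iff.2 ?_).trans (pow_zero p).symm
      apply Units.ext
      rw [uu_val, Units.val_one, add_eq_left]
      have := xx_pow F (p ^ 0)
      rwa [pow_zero, pow_one] at this
    | succ a =>
      refine orderOf_eq_prime_pow ?_ ?_
      · intro h2
        have h3 := congrArg Units.val h2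
        rw [Units.val_pow_eq_pow_val, uu_val, Units.val_one, add_pow_char_pow, one_pow, add_eq_left, xx,
          ← map_pow, Ideal.Quotient.eq_zero_iff_mem, Ideal.mem_span_singleton,
          pow_dvd_pow_iff Polynomial.X_ne_zero Polynomial.not_isUnit_X] at h3
        exact absurd h3 (not_le.2 (Nat.pow_lt_pow_right hp.one_lt (Nat.lt_succ_self a)))
      · apply Units.ext
        rw [Units.val_pow_eq_pow_val, uu_val, Units.val_one, add_pow_char_pow, one_pow, add_eq_left, xx_pow]
  have h2 := orderOf_dvd_iff_zpow_eq_one.2 hd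
  rwa [h1] at h2

/-! ### the scheme -/

variable (F Q)

/-- `Spec A` -/
noncomputable abbrev T : Over (Spec (CommRingCat.of F)) :=
  Over.mk (Spec.map (CommRingCat.ofHom (algebraMap F (A F Q))))

variable {F Q}

/-- the closed point -/
noncomputable def t0 (hQ : Q ≠ 0) : E F ⟶ T F Q := Over.homMk (Spec.map (CommRingCat.ofHom (ev hQ).toRingHom)) (by
  change Spec.map _ ≫ Spec.map _ = 𝟙 _
  rw [← Spec.map_comp, ← CommRingCat.ofHom_comp, ← Spec.map_id]
  congr 2
  exact (ev (F := F) hQ).comp_algebraMap)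

/-- the structure morphism as a morphism to the final object -/
noncomputable def tE : T F Q ⟶ E F := Over.homMk (Spec.map (CommRingCat.ofHom (algebraMap F (A F Q)))) (Category.comp_id _)

/-- **The Frobenius of `Spec A` factors through the closed point.** -/
theorem frob_eq (h : FrobOK F Q) (π : (T F Q).left ⟶ (T F Q).left) (hπ : K520.Frob.IsFrob Q π)
    (ρ : (E F).left ⟶ (E F).left) (hρ : K520.Frob.IsFrob Q ρ) :
    π = (tE (F := F) (Q := Q)).left ≫ ρ ≫ (t0 h.ne_zero).left := by
  have : IsAffine (T F Q).left := inferInstanceAs (IsAffine (Spec _))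
  refine ext_of_isAffine ?_
  have top_app : ∀ {X : Scheme.{u}} {q : ℕ} {π : X ⟶ X} (_ : K520.Frob.IsFrob q π) (s : Γ(X, ⊤)),
      π.appTop.hom s = s ^ q := by
    intro X q π hπ s
    have h1 := hπ.app ⊤ s
    have h2 : π.appLE ⊤ ⊤ (hπ.le ⊤) = π.appTop := Scheme.Hom.appLE_eq_app π (U := ⊤)
    rwa [h2] at h1
  ext s
  rw [top_app hπ]
  obtain ⟨a, rfl⟩ : ∃ a, (Scheme.ΓSpecIso (CommRingCat.of (A F Q))).inv.hom a = s :=
    ⟨(Scheme.ΓSpecIso (CommRingCat.of (A F Q))).hom.hom s, by
      rw [← RingHom.comp_apply, ← CommRingCat.hom_comp, Iso.hom_inv_id]; rfl⟩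
  rw [Scheme.Hom.comp_appTop, Scheme.Hom.comp_appTop, CommRingCat.hom_comp, CommRingCat.hom_comp, RingHom.comp_apply,
    RingHom.comp_apply, top_app hρ, map_pow]
  have h2 : (t0 (F := F) h.ne_zero).left.appTop.hom ((Scheme.ΓSpecIso (CommRingCat.of (A F Q))).inv.hom a) =
      (Scheme.ΓSpecIso (CommRingCat.of F)).inv.hom (ev h.ne_zero a) := by
    have := Scheme.ΓSpecIso_inv_naturality (CommRingCat.ofHom (ev (F := F) h.ne_zero).toRingHom)
    exact (congr($(this).hom a)).symm
  rw [h2]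
  have h3 : (tE (F := F) (Q := Q)).left.appTop.hom ((Scheme.ΓSpecIso (CommRingCat.of F)).inv.hom (ev h.ne_zero a)) =
      (Scheme.ΓSpecIso (CommRingCat.of (A F Q))).inv.hom (algebraMap F (A F Q) (ev h.ne_zero a)) := by
    have := Scheme.ΓSpecIso_inv_naturality (CommRingCat.ofHom (algebraMap F (A F Q)))
    exact (congr($(this).hom (ev h.ne_zero a))).symm
  rw [h3, ← map_pow, ← map_pow, ← map_pow, pow_Q h]

/-! ### points of the torus -/

section torus

variable {r : ℕ}

variable (F Q) in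
/-- global functions -/
noncomputable def gl : A F Q →+* Γ((T F Q).left, ⊤) := (Scheme.ΓSpecIso (CommRingCat.of (A F Q))).inv.hom

/-- the character with values in `A` -/
noncomputable def chr (h : FrobOK F Q) (j : Fin r) : Multiplicative (Fin r → ℤ) →* Γ((T F Q).left, ⊤) :=
  ((gl F Q : A F Q →* _).comp (Units.coeHom (A F Q))).comp
    ((zpowersHom _ (uu h)).comp (AddMonoidHom.toMultiplicative (Pi.evalAddMonoidHom (fun _ : Fin r => ℤ) j)))

theorem chr_apply (h : FrobOK F Q) (j : Fin r) (m : Fin r → ℤ) : chr h j (Multiplicative.ofAdd m) =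
    gl F Q ((uu h ^ (m j) : (A F Q)ˣ) : A F Q) := rfl

/-- the infinitesimal point -/
noncomputable def ipt (h : FrobOK F Q) (j : Fin r) : T F Q ⟶ D F r := dsEquiv (T F Q) (Fin r → ℤ) (chr h j)

theorem t0_ipt (h : FrobOK F Q) (j : Fin r) : t0 h.ne_zero ≫ ipt h j = 1 := by
  rw [ipt, dsEquiv_naturality]
  have h1 : ((t0 (F := F) h.ne_zero).left.appTop.hom : Γ((T F Q).left, ⊤) →* Γ((E F).left, ⊤)).comp (chr h j) = 1 := by
    apply MonoidHom.ext
    intro m
    change (t0 (F := F) h.ne_zero).left.appTop.hom ((Scheme.ΓSpecIso (CommRingCat.of (A F Q))).inv.hom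
      ((uu h ^ (m.toAdd j) : (A F Q)ˣ) : A F Q)) = 1
    have h2 : ∀ a : A F Q, (t0 (F := F) h.ne_zero).left.appTop.hom ((Scheme.ΓSpecIso (CommRingCat.of (A F Q))).inv.hom a) =
        (Scheme.ΓSpecIso (CommRingCat.of F)).inv.hom (ev h.ne_zero a) := by
      intro a
      have := Scheme.ΓSpecIso_inv_naturality (CommRingCat.ofHom (ev (F := F) h.ne_zero).toRingHom)
      exact (congr($(this).hom a)).symm
    rw [h2]
    have h3 : Units.map ((ev (F := F) h.ne_zero : A F Q →ₐ[F] F) : A F Q →* F) (uu h) = 1 := by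
      apply Units.ext
      change ev h.ne_zero (1 + xx F Q) = 1
      rw [map_add, map_one, ev_xx, add_zero]
    have h4 : ev h.ne_zero ((uu h ^ (m.toAdd j) : (A F Q)ˣ) : A F Q) = 1 := by
      have h5 : ((Units.map ((ev (F := F) h.ne_zero : A F Q →ₐ[F] F) : A F Q →* F) (uu h ^ (m.toAdd j)) : Fˣ) : F) = 1 := by
        rw [map_zpow, h3, one_zpow, Units.val_one]
      exact h5
    rw [h4, map_one]
  exact (congrArg (dsEquiv (E F) (Fin r → ℤ)) h1).trans (map_one _)

/-- **Divisibility.** -/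
theorem dvd_of_kills (h : FrobOK F Q) (φ : (Fin r → ℤ) →+ (Fin r → ℤ))
    (hk : ∀ x : T F Q ⟶ D F r, t0 h.ne_zero ≫ x = 1 → x ≫ Red.DSmap (Spec (CommRingCat.of F)) φ = 1)
    (m : Fin r → ℤ) (j : Fin r) : (Q : ℤ) ∣ φ m j := by
  apply dvd_of_zpow h
  have h1 := hk (ipt h j) (t0_ipt h j)
  rw [ipt, dsEquiv_DSmap] at h1
  have h2 : (chr h j).comp (AddMonoidHom.toMultiplicative φ) = 1 := by
    apply (dsEquiv (T F Q) (Fin r → ℤ)).injective
    rw [h1, map_one]
  have h3 := DFunLike.congr_fun h2 (Multiplicative.ofAdd m)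
  change (Scheme.ΓSpecIso (CommRingCat.of (A F Q))).inv.hom ((uu h ^ (φ m j) : (A F Q)ˣ) : A F Q) = 1 at h3
  apply Units.ext
  have h4 : Function.Injective (Scheme.ΓSpecIso (CommRingCat.of (A F Q))).inv.hom :=
    (ConcreteCategory.bijective_of_isIso (Scheme.ΓSpecIso (CommRingCat.of (A F Q))).inv).1
  apply h4
  rw [h3, Units.val_one, map_one]

end torus

end K222.InfPt
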