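import Groth.Agent.SGA7.K222.Assemble
import Groth.Agent.SGA7.K222.Core2
import Groth.Agent.SGA7.K222.GeoFrob
import Groth.Agent.SGA7.K222.HSt
import Groth.Agent.Sga7.H730.CycPts
import Groth.Agent.Sga7.H750.NeronMain

/-!
# Integrality and independence of `l` over a strictly henselian field

`A` an abelian variety over `K₀`, `K ⊇ K₀` the fraction field of a strictly henselian discrete valuation ring `R`, `σ` an
automorphism of the separable closure `Ω` of `K` over `K₀` preserving `R` and inducing the `Q`-power map on its residue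
field.  If `Gal(Ω/K)` acts with level two, the characteristic polynomial of `σ` on the Tate module has integral
coefficients independent of `l`.
-/

set_option autoImplicit false
universe u

open CategoryTheory MonoidalCategory CartesianMonoidalCategory MonObj AlgebraicGeometry AbDual Limits Polynomial

namespace K222.Main1

open TateGrp TorusTate Semi NerSemi ThetaA InfPt Groth.Agent Groth.Agent.Sga7 Groth.Agent.Sga7.H729
  Groth.Agent.Sga3.H778.NeutralPts Groth.Agent.Sga3.H778.NeutralOpen Groth.Agent.Sga7.H620.Neutral Assemble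

section

variable {S : Scheme.{u}} {F : Type u} [Field F] (t : Spec (CommRingCat.of F) ⟶ S) (N : Over S) [GrpObj N]

theorem bcPt_eq (g : 𝟙_ (Over S) ⟶ N) : bcPt t N g = Semi.sp t g := by
  apply bc_ext
  rw [sp_fst]
  change (Sga3B.BcPts.bcMulEquiv t (𝟙_ _) N (toUnit _ ≫ g)).left ≫ _ = _
  rw [bc_fst, Over.comp_left]
  congr 1

end

/-- **Main theorem.** -/
theorem main1 {R K K₀ Ω : Type u} [CommRing R] [IsDomain R] [IsDiscreteValuationRing R] [Field K] [Algebra R K]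
    [IsFractionRing R K] [Field K₀] [Algebra K₀ K] [Field Ω] [Algebra K Ω]
    [Algebra K₀ Ω] [IsScalarTower K₀ K Ω] [hsep : IsSepClosure K Ω]
    (hR : EtCoh.IsStrictlyHenselianLocalRing R)
    (sK : K ≃+* K) (s : R ≃+* R) (σ : Ω ≃ₐ[K₀] Ω) (hσ : ∀ x, σ (algebraMap K Ω x) = algebraMap K Ω (sK x))
    (hsK : ∀ r, sK (algebraMap R K r) = algebraMap R K (s r)) (Q : ℕ)
    (hQ : Q = 1 ∨ ∃ p a : ℕ, p.Prime ∧ (p : IsLocalRing.ResidueField R) = 0 ∧ Q = p ^ a)
    (hs : ∀ r, s r - r ^ Q ∈ IsLocalRing.maximalIdeal R)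
    (A : Over (Spec (CommRingCat.of K₀))) [GrpObj A] [IsCommMonObj A] [IsProper A.hom] [GeometricallyIntegral A.hom]
    (l₀ : ℕ) (hl₀ : l₀.Prime) (hl₀' : (l₀ : IsLocalRing.ResidueField R) ≠ 0)
    (hlev₀ : ∀ (ν : ℕ) (σ τ : Ω ≃ₐ[K] Ω) (x : SGA7.Pts Ω A), x ^ (l₀ ^ ν) = 1 →
      SGA7.dev (σ.restrictScalars K₀) (SGA7.dev (τ.restrictScalars K₀) x) = 1) :
    ∃ P : ℤ[X], ∀ (l : ℕ) [Fact l.Prime] (_ : (l : IsLocalRing.ResidueField R) ≠ 0)
      (_ : ∀ (ν : ℕ) (σ τ : Ω ≃ₐ[K] Ω) (x : SGA7.Pts Ω A), x ^ (l ^ ν) = 1 →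
        SGA7.dev (σ.restrictScalars K₀) (SGA7.dev (τ.restrictScalars K₀) x) = 1)
      [Module.Free ℤ_[l] (TateMod A l (SGA7.pt Ω))] [Module.Finite ℤ_[l] (TateMod A l (SGA7.pt Ω))]
      (ρ : (Ω ≃ₐ[K₀] Ω) → Module.End ℤ_[l] (TateMod A l (SGA7.pt Ω)))
      (_ : ∀ (τ : Ω ≃ₐ[K₀] Ω) (z : TateMod A l (SGA7.pt Ω)) (m : ℕ), cp m (ρ τ z) = SGA7.galAct τ (cp m z)),
      (ρ σ).charpoly = P.map (Int.castRingHom ℤ_[l]) := by
  obtain ⟨hh, hsc⟩ := id hR
  let _ : Algebra R Ω := ((algebraMap K Ω).comp (algebraMap R K)).toAlgebra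
  have : IsScalarTower R K Ω := .of_algebraMap_eq fun _ => rfl
  have : IsSepClosed Ω := IsSepClosure.sep_closed (k := K) (K := Ω)
  have : Algebra.IsSeparable K Ω := IsSepClosure.separable
  have : IsGalois K Ω := inferInstance
  -- the Neron model
  have hP : IsProper (Red.bc (spm K₀ K) A).hom := by
    dsimp [Red.bc]
    infer_instance
  have hG : GeometricallyIntegral (Red.bc (spm K₀ K) A).hom := by
    dsimp [Red.bc]
    infer_instance
  obtain ⟨N, _, e, he, hN⟩ := H750.NeronMain.neAll R K (Red.bc (spm K₀ K) A)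
  have hw : e.hom.left ≫ (Red.bc (spm K₀ K) A).hom = ((SGA7.genFib R K).obj N).hom := Over.w e.hom
  have hP' : IsProper ((SGA7.genFib R K).obj N).hom := by
    rw [← hw]
    infer_instance
  have hG' : GeometricallyIntegral ((SGA7.genFib R K).obj N).hom := by
    rw [← hw]
    exact (MorphismProperty.cancel_left_of_respectsIso @GeometricallyIntegral _ _).2 hG
  have cN : IsCommMonObj N := H751.SecRoot.isCommMonObj_of_isNeron R K N hN
  have hsm : Smooth N.hom := hN.1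
  have hsep : IsSeparated N.hom := hN.2.1
  have hqc : QuasiCompact N.hom := hN.2.2.1
  have h0 : IsOpen (SGA3x.neutralSet N) := isOpen_neutral N
  obtain ⟨g0, m0⟩ := exists_grpObj N h0
  have c0 : IsCommMonObj (opn N (neutral N h0)) := H620.TorsCount.isCommMonObj_of_mono (opnι N (neutral N h0))
  have cA : IsCommMonObj ((SGA7.genFib R K).obj N) := inferInstanceAs (IsCommMonObj (Red.bc (spm R K) N))
  have hsm0 := smooth_neutral' N h0
  have hqc0 := quasiCompact_neutral N h0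
  have hsep0 : IsSeparated (opn N (neutral N h0)).hom := by
    rw [← Over.w (opnι N (neutral N h0))]
    infer_instance
  -- level two
  have tr : ∀ l : ℕ, (∀ (ν : ℕ) (σ τ : Ω ≃ₐ[K] Ω) (x : SGA7.Pts Ω A), x ^ (l ^ ν) = 1 →
      SGA7.dev (σ.restrictScalars K₀) (SGA7.dev (τ.restrictScalars K₀) x) = 1) →
      ∀ (ν : ℕ) (σ τ : Ω ≃ₐ[K] Ω) (x : SGA7.Pts Ω ((SGA7.genFib R K).obj N)), x ^ (l ^ ν) = 1 →
        SGA7.dev σ (SGA7.dev τ x) = 1 := by
    intro l h ν σ τ x hx
    apply (Eps.eps Ω e).injective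
    rw [Eps.eps_dev, Eps.eps_dev, h ν σ τ _ (by rw [← map_pow, hx, map_one]), map_one]
  -- the geometric point
  let F : Type u := AlgebraicClosure ((Spec (CommRingCat.of R)).residueField (IsLocalRing.closedPoint R))
  let t : Spec (CommRingCat.of F) ⟶ Spec (CommRingCat.of R) :=
    Red.geomPt (S := Spec (CommRingCat.of R)) (IsLocalRing.closedPoint R)
  have ht : t (IsLocalRing.closedPoint F) = IsLocalRing.closedPoint R := Core.geomPt_apply _ _
  have hQF : FrobOK F Q := GeoFrob.frobOK t ht hQ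
  obtain ⟨n, hn, hn'⟩ := Core2.exists_dims R K Ω N hN h0 F t
  -- the special fibre
  have sH : Smooth (Red.bc t (opn N (neutral N h0))).hom :=
    inferInstanceAs (Smooth (pullback.snd (opn N (neutral N h0)).hom t))
  have qH : QuasiCompact (Red.bc t (opn N (neutral N h0))).hom :=
    inferInstanceAs (QuasiCompact (pullback.snd (opn N (neutral N h0)).hom t))
  have kH : ConnectedSpace ↥(Red.bc t (opn N (neutral N h0))).left := connectedSpace_bc_neutral N h0 t
  have cH : IsCommMonObj (Red.bc t (opn N (neutral N h0))) := inferInstance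
  have hno := (Core2.core2 R K Ω l₀ hl₀ hl₀' N hN (tr l₀ hlev₀) h0 F t ht).1
  -- the semilinear endomorphisms
  have hsKc : ∀ c : K₀, sK (algebraMap K₀ K c) = algebraMap K₀ K c := by
    intro c
    apply (algebraMap K Ω).injective
    rw [← hσ, ← IsScalarTower.algebraMap_apply, AlgEquiv.commutes]
  have h2 : aut sK.symm ≫ spm K₀ K = spm K₀ K := aut_over _ fun c => by
    rw [RingEquiv.symm_apply_eq, hsKc]
  have h1 : spm R K ≫ aut s.symm = aut sK.symm ≫ spm R K := aut_comm _ _ fun r => by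
    rw [RingEquiv.symm_apply_eq, hsK, RingEquiv.apply_symm_apply]
  obtain ⟨φ, hφ⟩ := exists_phi hN e h1 h2
  have hsl : SL φ := sl hN h1 h2 hφ
  obtain ⟨φ0, hφ0, hsl0⟩ := NeutSemi.exists_phi0 φ hsl h0
  have hts : ∀ ρ : Spec (CommRingCat.of F) ⟶ Spec (CommRingCat.of F), K520.Frob.IsFrob Q ρ → ρ ≫ t = t ≫ aut s :=
    fun ρ hρ => GeoFrob.comp_eq t ht (s : R →+* R) hs ρ hρ
  have hmu := isMonHom_u (aut_symm s) φ0 hsl0 hQF t hts
  obtain ⟨X⟩ := HSt.exists_str (Red.bc t (opn N (neutral N h0))) hno n hn' (u (aut_symm s) φ0 hsl0 hQF t hts) hQF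
    (fun x hx => kills (aut_symm s) φ0 hsl0 hQF t hts x hx)
  obtain ⟨PB, -, -, hPB⟩ := K519.CharThms.exists_int K519.PolyA.poly X.a X.ha X.uB
  refine ⟨X.M.charpoly * ((Q : ℤ) • X.M).charpoly * PB, fun l _ hl hlev _ _ ρ hρ => ?_⟩
  have hlp : l.Prime := Fact.out
  have hlu : IsUnit (l : R) := H481.Tame.isUnit_of_residue_ne_zero hl
  have hlF : (l : F) ≠ 0 := by
    obtain ⟨g, hg⟩ := Spec.map_surjective t
    have h2 := (hlu.map g.hom).ne_zero
    rwa [map_natCast] at h2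
  have hlΩ : ∀ m : ℕ, ((l ^ m : ℕ) : Ω) ≠ 0 := by
    intro m
    have h3 := ((hlu.map (algebraMap R Ω)).pow m).ne_zero
    rw [map_natCast] at h3
    rwa [Nat.cast_pow]
  have hlev' := tr l hlev
  obtain ⟨τ, hτ⟩ := H730.CycPts.exists_tau R K Ω hR l hlp hl ((SGA7.genFib R K).obj N) hlev'
  have hcA : ∀ m, Nat.card {x : SGA7.Pts Ω ((SGA7.genFib R K).obj N) // x ^ (l ^ m) = 1} = (l ^ m) ^ (2 * n) :=
    fun m => Radical.card_pts _ n hn (l ^ m) (hlΩ m)
  have hcB : ∀ m, Nat.card {x : E F ⟶ X.B // x ^ (l ^ m) = 1} = (l ^ m) ^ (2 * X.a) := fun m =>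
    Etcore.AbTors.card_torsion X.B X.a X.ha (l ^ m) (by
      rw [Nat.cast_pow]
      exact pow_ne_zero _ hlF)
  obtain ⟨b1, b2, b3⟩ := rank_facts (A := X.B) (T := E F) l (2 * X.a) hcB
    (Radical.exists_root l (2 * X.a) hlp.one_lt.le hcB)
  refine Assemble.charpoly_eq hN e h0 hR t ht sK s σ hσ hsK hQF hs h2 hφ hsl hφ0 hsl0 hts X l hlu hlF
    (CoreAux.etale_pow_pow _ hl) hlev' τ hτ
    (fun W hW hW' w hw => CoreAux.exists_lift_of_divisible N h0 t ht W hlp hW hW' w hw) (fun m z hz => ?_) hcA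
    (Radical.exists_root l (2 * n) hlp.one_lt.le hcA) b3 PB
    (K519.CharThms.charpoly_eq K519.PolyA.poly l hlF X.uB PB hPB) ρ hρ
  obtain ⟨g, hg, hg'⟩ := (Core2.core2 R K Ω l hlp hl N hN hlev' h0 F t ht).2 X.B X.q τ z m hz
  exact ⟨g, hg, by rw [← bcPt_eq]; exact hg'⟩

end K222.Main1
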