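import Groth.Agent.SGA7.K222.Semi
import Groth.Prelude.Def_SGA7IX

/-!
# Semilinear endomorphisms of Néron models

`N` the Néron model over `R` of `A ×_{K₀} K`, `s` an automorphism of `Spec R` inducing on `Spec K` an automorphism over
`Spec K₀`: the induced automorphism of `A ×_{K₀} K` extends to a semilinear endomorphism of `N`.
-/

set_option autoImplicit false
set_option linter.unusedSectionVars false
universe u

open CategoryTheory MonoidalCategory CartesianMonoidalCategory MonObj AlgebraicGeometry Limits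

namespace K222.NerSemi

open Groth.Agent.Sga3B.BcPts Semi

/-- The morphism of spectra attached to an algebra. -/
noncomputable abbrev spm (R R' : Type u) [CommRing R] [CommRing R'] [Algebra R R'] :
    Spec (CommRingCat.of R') ⟶ Spec (CommRingCat.of R) :=
  Spec.map (CommRingCat.ofHom (algebraMap R R'))

section Ext

variable {R K : Type u} [CommRing R] [Field K] [Algebra R K]

/-- The Neron property for arbitrary cartesian squares. -/
theorem exists_ext {N : Over (Spec (CommRingCat.of R))} (hN : SGA7.IsNeron R K N)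
    {Y YK : Scheme.{u}} {y : Y ⟶ Spec (CommRingCat.of R)} [Smooth y] {jY : YK ⟶ Y}
    {yK : YK ⟶ Spec (CommRingCat.of K)} (hY : IsPullback jY yK y (spm R K))
    (f : YK ⟶ N.left) (hf : f ≫ N.hom = yK ≫ spm R K) :
    ∃ g : Y ⟶ N.left, g ≫ N.hom = y ∧ jY ≫ g = f := by
  obtain ⟨-, -, -, h⟩ := hN
  obtain ⟨-, hsurj⟩ := h (Over.mk y) (by assumption)
  let F : (SGA7.genFib R K).obj (Over.mk y) ⟶ (SGA7.genFib R K).obj N :=
    Over.homMk (pullback.lift (hY.isoPullback.inv ≫ f) (hY.isoPullback.inv ≫ yK) (by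
      rw [Category.assoc, Category.assoc, hf])) (by
      refine (pullback.lift_snd _ _ _).trans ?_
      exact hY.isoPullback_inv_snd)
  obtain ⟨g, hg⟩ := hsurj F
  refine ⟨g.left, Over.w g, ?_⟩
  have h1 : ((SGA7.genFib R K).map g).left ≫ pullback.fst N.hom (spm R K) =
    pullback.fst y (spm R K) ≫ g.left := pullback.lift_fst _ _ _
  have h2 : ((SGA7.genFib R K).map g).left = F.left := congrArg (fun t => t.left) hg
  have h3 : F.left ≫ pullback.fst N.hom (spm R K) = hY.isoPullback.inv ≫ f :=
    pullback.lift_fst _ _ _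
  rw [h2, h3] at h1
  rw [← hY.isoPullback_hom_fst, Category.assoc, ← h1, Iso.hom_inv_id_assoc]

/-- Uniqueness in the Neron property. -/
theorem ext_generic {N : Over (Spec (CommRingCat.of R))} (hN : SGA7.IsNeron R K N)
    {Y YK : Scheme.{u}} {y : Y ⟶ Spec (CommRingCat.of R)} [Smooth y] {jY : YK ⟶ Y}
    {yK : YK ⟶ Spec (CommRingCat.of K)} (hY : IsPullback jY yK y (spm R K))
    {g g' : Y ⟶ N.left} (hg : g ≫ N.hom = y) (hg' : g' ≫ N.hom = y) (h : jY ≫ g = jY ≫ g') :
    g = g' := by
  obtain ⟨-, -, -, hb⟩ := hN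
  obtain ⟨hinj, -⟩ := hb (Over.mk y) (by assumption)
  have h1 : (Over.homMk g hg : Over.mk y ⟶ N) = Over.homMk g' hg' := by
    apply hinj
    dsimp only
    ext1
    apply pullback.hom_ext
    · have e : ∀ (k : Over.mk y ⟶ N), ((Over.pullback (spm R K)).map k).left ≫
        pullback.fst N.hom (spm R K) = pullback.fst y (spm R K) ≫ k.left :=
        fun k => pullback.lift_fst _ _ _
      refine (e _).trans (Eq.trans ?_ (e _).symm)
      show pullback.fst y (spm R K) ≫ g = pullback.fst y (spm R K) ≫ g'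
      rw [← hY.isoPullback_inv_fst, Category.assoc, Category.assoc, h]
    · have e : ∀ (k : Over.mk y ⟶ N), ((Over.pullback (spm R K)).map k).left ≫
        pullback.snd N.hom (spm R K) = pullback.snd y (spm R K) := by
        intro k
        exact (Over.w ((Over.pullback (spm R K)).map k))
      exact (e _).trans (e _).symm
  exact congrArg (fun t => t.left) h1

end Ext

section comp

variable {R K K₀ : Type u} [CommRing R] [Field K] [Algebra R K] [Field K₀] [Algebra K₀ K]
  {N : Over (Spec (CommRingCat.of R))} [GrpObj N] {A : Over (Spec (CommRingCat.of K₀))} [GrpObj A]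
  (e : (SGA7.genFib R K).obj N ≅ Red.bc (spm K₀ K) A) [IsMonHom e.hom]

/-- isomorphisms on points -/
noncomputable def isoPts {S : Scheme.{u}} {G H : Over S} [GrpObj G] [GrpObj H] (e : G ≅ H) [IsMonHom e.hom] (X : Over S) :
    (X ⟶ G) ≃* (X ⟶ H) where
  toFun x := x ≫ e.hom
  invFun x := x ≫ e.inv
  left_inv x := (Category.assoc _ _ _).trans (by rw [Iso.hom_inv_id, Category.comp_id])
  right_inv x := (Category.assoc _ _ _).trans (by rw [Iso.inv_hom_id, Category.comp_id])
  map_mul' x y := MonObj.mul_comp x y e.hom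

/-- the `A`-component of a point of `N` with values in a `K`-scheme -/
noncomputable def al (X : Over (Spec (CommRingCat.of K))) :
    ((Over.map (spm R K)).obj X ⟶ N) ≃* ((Over.map (spm K₀ K)).obj X ⟶ A) :=
  ((bcMulEquiv (spm R K) X N).trans (isoPts e X)).trans (bcMulEquiv (spm K₀ K) X A).symm

/-- the first projection -/
noncomputable abbrev pA : (Red.bc (spm K₀ K) A).left ⟶ A.left := pullback.fst A.hom (spm K₀ K)

/-- the map to the Néron model -/
noncomputable def jN : (Red.bc (spm K₀ K) A).left ⟶ N.left := e.inv.left ≫ pullback.fst N.hom (spm R K)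

/-- the point of `A_K` -/
noncomputable def zz {X : Over (Spec (CommRingCat.of K))} (x : (Over.map (spm R K)).obj X ⟶ N) :
    X ⟶ Red.bc (spm K₀ K) A := bcMulEquiv (spm R K) X N x ≫ e.hom

theorem zz_pA {X : Over (Spec (CommRingCat.of K))} (x : (Over.map (spm R K)).obj X ⟶ N) :
    (zz e x).left ≫ pullback.fst A.hom (spm K₀ K) = (al e X x).left := by
  change _ = ((bcMulEquiv (spm K₀ K) X A).symm (zz e x)).left
  rw [bc_symm_left]

theorem zz_jN {X : Over (Spec (CommRingCat.of K))} (x : (Over.map (spm R K)).obj X ⟶ N) :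
    (zz e x).left ≫ jN e = x.left := by
  have h1 : (e.hom.left ≫ e.inv.left) = 𝟙 _ := by
    rw [← Over.comp_left, Iso.hom_inv_id]; rfl
  change ((bcMulEquiv (spm R K) X N x).left ≫ e.hom.left) ≫ e.inv.left ≫ pullback.fst N.hom (spm R K) = _
  rw [Category.assoc, ← Category.assoc e.hom.left, h1, Category.id_comp]
  exact bc_fst (spm R K) x

theorem jN_hom : jN e ≫ N.hom = (Red.bc (spm K₀ K) A).hom ≫ spm R K := by
  rw [jN, Category.assoc, pullback.condition, ← Category.assoc]
  congr 1
  exact Over.w e.inv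

theorem isPullback_jN : IsPullback (jN e) (Red.bc (spm K₀ K) A).hom N.hom (spm R K) := by
  have h1 : IsPullback (pullback.fst N.hom (spm R K)) ((SGA7.genFib R K).obj N).hom N.hom (spm R K) :=
    IsPullback.of_hasPullback _ _
  refine IsPullback.of_iso h1 ((Over.forget _).mapIso e) (Iso.refl _) (Iso.refl _) (Iso.refl _) ?_ ?_ ?_ ?_
  · have h2 : (e.hom.left ≫ e.inv.left) = 𝟙 _ := by
      rw [← Over.comp_left, Iso.hom_inv_id]; rfl
    change pullback.fst N.hom (spm R K) ≫ 𝟙 _ = e.hom.left ≫ e.inv.left ≫ pullback.fst N.hom (spm R K)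
    rw [← Category.assoc, h2, Category.id_comp, Category.comp_id]
  · change _ ≫ 𝟙 _ = e.hom.left ≫ _
    rw [Category.comp_id]
    exact (Over.w e.hom).symm
  · simp
  · simp

end comp

section semi

variable {R K K₀ : Type u} [CommRing R] [Field K] [Algebra R K] [Field K₀] [Algebra K₀ K]
  {N : Over (Spec (CommRingCat.of R))} [GrpObj N] (hN : SGA7.IsNeron R K N)
  {A : Over (Spec (CommRingCat.of K₀))} [GrpObj A]
  (e : (SGA7.genFib R K).obj N ≅ Red.bc (spm K₀ K) A) [IsMonHom e.hom]
  {s' : Spec (CommRingCat.of R) ⟶ Spec (CommRingCat.of R)} {sK' : Spec (CommRingCat.of K) ⟶ Spec (CommRingCat.of K)}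
  [IsIso s'] [IsIso sK'] (h1 : spm R K ≫ s' = sK' ≫ spm R K) (h2 : sK' ≫ spm K₀ K = spm K₀ K)

/-- the semilinear automorphism of `A_K` -/
noncomputable def phA : (Red.bc (spm K₀ K) A).left ⟶ (Red.bc (spm K₀ K) A).left :=
  pullback.lift (pullback.fst A.hom (spm K₀ K)) (pullback.snd A.hom (spm K₀ K) ≫ sK') (by
    rw [Category.assoc, h2, pullback.condition])

theorem phA_fst : phA (A := A) h2 ≫ pullback.fst A.hom (spm K₀ K) = pullback.fst A.hom (spm K₀ K) := pullback.lift_fst _ _ _

theorem phA_hom : phA (A := A) h2 ≫ (Red.bc (spm K₀ K) A).hom = (Red.bc (spm K₀ K) A).hom ≫ sK' := pullback.lift_snd _ _ _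

include h1 in
theorem isPullback_sq : IsPullback (spm R K) sK' s' (spm R K) := IsPullback.of_vert_isIso ⟨h1⟩

include hN h1 in
/-- **The semilinear endomorphism of the Néron model.** -/
theorem exists_phi : ∃ φ : (Over.map s').obj N ⟶ N, jN e ≫ φ.left = phA h2 ≫ jN e := by
  have hsm : Smooth N.hom := hN.1
  have hsm' : Smooth (N.hom ≫ s') := inferInstance
  have h3 : IsPullback (jN e) ((Red.bc (spm K₀ K) A).hom ≫ sK') (N.hom ≫ s') (spm R K) :=
    (isPullback_jN e).paste_vert (isPullback_sq h1)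
  obtain ⟨g, hg, hg'⟩ := exists_ext hN h3 (phA h2 ≫ jN e) (by
    rw [Category.assoc, jN_hom, ← Category.assoc, phA_hom])
  exact ⟨Over.homMk g hg, hg'⟩

variable {e} {φ : (Over.map s').obj N ⟶ N} (hφ : jN e ≫ φ.left = phA h2 ≫ jN e)

/-- the twisted point -/
noncomputable def tw {X : Over (Spec (CommRingCat.of K))} (x : (Over.map (spm R K)).obj X ⟶ N) :
    (Over.map (spm R K)).obj ((Over.map sK').obj X) ⟶ N :=
  (Over.homMk (𝟙 _) (by
    change 𝟙 _ ≫ (X.hom ≫ spm R K) ≫ s' = (X.hom ≫ sK') ≫ spm R K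
    rw [Category.id_comp, Category.assoc, Category.assoc, h1]) :
    (Over.map (spm R K)).obj ((Over.map sK').obj X) ⟶ (Over.map s').obj ((Over.map (spm R K)).obj X)) ≫ push φ x

theorem tw_left {X : Over (Spec (CommRingCat.of K))} (x : (Over.map (spm R K)).obj X ⟶ N) :
    (tw (φ := φ) h1 x).left = x.left ≫ φ.left := by
  change 𝟙 _ ≫ x.left ≫ φ.left = _
  rw [Category.id_comp]

include hφ in
/-- The `A`-component does not change. -/
theorem al_tw {X : Over (Spec (CommRingCat.of K))} (x : (Over.map (spm R K)).obj X ⟶ N) :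
    (al e _ (tw (φ := φ) h1 x)).left = (al e X x).left := by
  -- the twisted point of `A_K`
  have h4 : (zz e x).left ≫ phA h2 = (zz e (tw (φ := φ) h1 x)).left := by
    apply (isPullback_jN e).hom_ext
    · rw [zz_jN, tw_left, Category.assoc, ← hφ, ← Category.assoc, zz_jN]
    · rw [Category.assoc, phA_hom, ← Category.assoc, Over.w, Over.w]
      rfl
  rw [← zz_pA, ← zz_pA, ← h4, Category.assoc, phA_fst]

/-- the identification of the test objects -/
noncomputable def lam (X : Over (Spec (CommRingCat.of K))) :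
    (Over.map (spm K₀ K)).obj ((Over.map sK').obj X) ⟶ (Over.map (spm K₀ K)).obj X :=
  Over.homMk (𝟙 _) (by
    change 𝟙 _ ≫ X.hom ≫ spm K₀ K = (X.hom ≫ sK') ≫ spm K₀ K
    rw [Category.id_comp, Category.assoc, h2])

include hφ in
theorem al_tw' {X : Over (Spec (CommRingCat.of K))} (x : (Over.map (spm R K)).obj X ⟶ N) :
    al e _ (tw (φ := φ) h1 x) = lam h2 X ≫ al e X x := by
  ext1
  rw [al_tw h1 h2 hφ]
  change _ = 𝟙 _ ≫ _
  rw [Category.id_comp]

include h2 hφ in
theorem tw_mul {X : Over (Spec (CommRingCat.of K))} (x y : (Over.map (spm R K)).obj X ⟶ N) :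
    tw (φ := φ) h1 (x * y) = tw (φ := φ) h1 x * tw (φ := φ) h1 y := by
  apply (al e _).injective
  rw [map_mul, al_tw' h1 h2 hφ, al_tw' h1 h2 hφ, al_tw' h1 h2 hφ, map_mul, MonObj.comp_mul]

include h1 h2 hφ hN in
/-- **`φ` is a semilinear homomorphism.** -/
theorem sl : SL φ := by
  have key : push φ (fst N N * snd N N) = push φ (fst N N) * push φ (snd N N) := by
    have hsm : Smooth N.hom := hN.1
    let Y : Over (Spec (CommRingCat.of R)) := N ⊗ N
    have hY : Smooth Y.hom := by
      change Smooth (pullback.fst N.hom N.hom ≫ N.hom)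
      infer_instance
    have hY' : Smooth (Y.hom ≫ s') := inferInstance
    let X : Over (Spec (CommRingCat.of K)) := (Over.pullback (spm R K)).obj Y
    let jY : (Over.map (spm R K)).obj X ⟶ Y := (Over.mapPullbackAdj (spm R K)).counit.app Y
    have hjY : jY.left = pullback.fst Y.hom (spm R K) := by
      simp [jY, X]
    have h3 : IsPullback (pullback.fst Y.hom (spm R K)) (pullback.snd Y.hom (spm R K)) Y.hom (spm R K) :=
      IsPullback.of_hasPullback _ _
    have h4 : IsPullback (pullback.fst Y.hom (spm R K)) (pullback.snd Y.hom (spm R K) ≫ sK') (Y.hom ≫ s') (spm R K) :=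
      h3.paste_vert (isPullback_sq h1)
    ext1
    refine ext_generic hN h4 (Over.w _) (Over.w _) ?_
    -- both sides as twisted points
    have h5 : ∀ a : Y ⟶ N, pullback.fst Y.hom (spm R K) ≫ (push φ a).left = (tw (φ := φ) h1 (jY ≫ a)).left := by
      intro a
      rw [tw_left, Over.comp_left, hjY, push_left, Category.assoc]
    have h6 : tw (φ := φ) h1 (jY ≫ (fst N N * snd N N)) =
        tw (φ := φ) h1 (jY ≫ fst N N) * tw (φ := φ) h1 (jY ≫ snd N N) := by
      rw [MonObj.comp_mul, tw_mul h1 h2 hφ]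
    rw [h5, h6]
    -- the product of the pushed points
    let κ : (Over.map (spm R K)).obj ((Over.map sK').obj X) ⟶ (Over.map s').obj Y :=
      Over.homMk (pullback.fst Y.hom (spm R K)) (by
        change pullback.fst Y.hom (spm R K) ≫ Y.hom ≫ s' = (pullback.snd Y.hom (spm R K) ≫ sK') ≫ spm R K
        rw [← Category.assoc, pullback.condition, Category.assoc, Category.assoc, h1])
    have h7 : ∀ a : Y ⟶ N, κ ≫ push φ a = tw (φ := φ) h1 (jY ≫ a) := by
      intro a
      ext1
      rw [← h5]
      rfl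
    have h8 : pullback.fst Y.hom (spm R K) ≫ (push φ (fst N N) * push φ (snd N N)).left =
        (κ ≫ (push φ (fst N N) * push φ (snd N N))).left := rfl
    rw [h8, MonObj.comp_mul, h7, h7]
  intro Y a b
  have h3 : a * b = lift a b ≫ (fst N N * snd N N) := by
    rw [MonObj.comp_mul, lift_fst, lift_snd]
  have h4 : ∀ c : N ⊗ N ⟶ N, push φ (lift a b ≫ c) = (Over.map s').map (lift a b) ≫ push φ c := by
    intro c
    rw [push, push, Functor.map_comp, Category.assoc]
  rw [h3, h4, key, MonObj.comp_mul, ← h4, ← h4, lift_fst, lift_snd]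

end semi

end K222.NerSemi
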