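import Groth.Agent.SGA7.K222.StrDef
import Groth.Agent.SGA7.K222.CharLin
import Groth.Agent.Books.AlgPts
import Groth.Prelude.Def_SGA7IX

/-!
# The characteristic polynomial at one prime
-/

set_option autoImplicit false
universe u

open CategoryTheory MonoidalCategory CartesianMonoidalCategory MonObj AlgebraicGeometry AbDual Limits Polynomial

namespace K222.PerL

open StrDef TateGrp TorusTate

theorem map_smul' (l : ℕ) [Fact l.Prime] {r : ℕ} (Q : ℕ) (M : Matrix (Fin r) (Fin r) ℤ) :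
    ((Q : ℤ) • M).map (Int.cast : ℤ → ℤ_[l]) = (Q : ℤ_[l]) • M.map (Int.cast : ℤ → ℤ_[l]) := by
  ext i j
  rw [Matrix.map_apply, Matrix.smul_apply, Matrix.smul_apply, Matrix.map_apply, smul_eq_mul, smul_eq_mul, Int.cast_mul,
    Int.cast_natCast]

instance (l : ℕ) [Fact l.Prime] : Infinite ℤ_[l] := Infinite.of_injective (Nat.cast : ℕ → ℤ_[l]) Nat.cast_injective

section str

variable {F : Type u} [Field F] {H : Over (Spec (CommRingCat.of F))} [GrpObj H] [IsCommMonObj H]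
  {u : H ⟶ H} [IsMonHom u] {Q n : ℕ} (X : Str H u Q n)

instance mono_i : Mono X.i := by
  have : Mono X.i.left := inferInstance
  exact Over.mono_of_mono_left _

theorem ker_iff (y : E F ⟶ H) : y ≫ X.q = 1 ↔ ∃ x : E F ⟶ D F X.r, x ≫ X.i = y := by
  have hk : IsPullback X.i (toUnit (D F X.r)) X.q η[X.B] := X.hker
  constructor
  · intro hy
    refine ⟨hk.lift y (toUnit _) ?_, hk.lift_fst _ _ _⟩
    rw [hy, Hom.one_def]
  · rintro ⟨x, rfl⟩
    rw [Category.assoc, hk.w, ← Category.assoc, Hom.one_def]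
    congr 1
    exact toUnit_unique _ _

theorem i_inj {x y : E F ⟶ D F X.r} (h : x ≫ X.i = y ≫ X.i) : x = y := (cancel_mono X.i).1 h

theorem q_surj [IsAlgClosed F] [LocallyOfFiniteType H.hom] (z : E F ⟶ X.B) : ∃ y : E F ⟶ H, y ≫ X.q = z :=
  Groth.Agent.Books.AlgPts.exists_comp_eq_of_pt_mem_range X.q z (X.q.left.surjective _)

/-- the endomorphism of the points of the torus -/
noncomputable def psi : (E F ⟶ D F X.r) →* (E F ⟶ D F X.r) where
  toFun x := x ≫ Red.DSmap (Spec (CommRingCat.of F)) X.φ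
  map_one' := by
    apply i_inj X
    rw [Category.assoc, ← X.hφ, ← Category.assoc, MonObj.one_comp, MonObj.one_comp]
  map_mul' x y := by
    apply i_inj X
    rw [Category.assoc, ← X.hφ, MonObj.mul_comp, MonObj.mul_comp, Category.assoc, Category.assoc, X.hφ]

variable (l : ℕ) [hl : Fact l.Prime]

/-- the Tate module of the torus in that of `H` -/
noncomputable abbrev ti : TateMod (D F X.r) l (E F) →ₗ[ℤ_[l]] TateMod H l (E F) := tm (postHom X.i)

/-- the Tate module of `H` to that of the abelian variety -/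
noncomputable abbrev tq : TateMod H l (E F) →ₗ[ℤ_[l]] TateMod X.B l (E F) := tm (postHom X.q)

theorem ti_injective : Function.Injective (ti X l) :=
  tm_injective _ fun _ x _ hx => i_inj X (hx.trans (MonObj.one_comp X.i).symm)

theorem exact : LinearMap.range (ti X l) = LinearMap.ker (tq X l) := by
  refine tm_exact _ _ (fun _ x _ hx => i_inj X (hx.trans (MonObj.one_comp X.i).symm)) fun n y hy => ?_
  constructor
  · intro h
    obtain ⟨x, hx⟩ := (ker_iff X y).1 h
    refine ⟨x, ?_, hx⟩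
    apply i_inj X
    change (postHom X.i) (x ^ (l ^ n)) = (postHom X.i) 1
    rw [map_pow, map_one]
    change (x ≫ X.i) ^ (l ^ n) = 1
    rw [hx, hy]
  · rintro ⟨x, -, hx⟩
    exact (ker_iff X y).2 ⟨x, hx⟩

variable [IsAlgClosed F]

theorem tq_surjective [LocallyOfFiniteType H.hom] : Function.Surjective (tq X l) :=
  tm_surjective_of_divisible (postHom X.i) (postHom X.q) (fun y hy => (ker_iff X y).1 hy)
    (fun x => (ker_iff X (x ≫ X.i)).2 ⟨x, rfl⟩) (q_surj X) (fun x => exists_pow_eq hl.out.ne_zero x)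

theorem free_D (hlF : (l : F) ≠ 0) : Module.Free ℤ_[l] (TateMod (D F X.r) l (E F)) := by
  obtain ⟨ζ, h1, h2, h3⟩ := exists_system F l hlF
  exact free_tate ζ h1 h2 h3

theorem finite_D (hlF : (l : F) ≠ 0) : Module.Finite ℤ_[l] (TateMod (D F X.r) l (E F)) := by
  obtain ⟨ζ, h1, h2, h3⟩ := exists_system F l hlF
  exact finite_tate ζ h1 h2 h3

theorem finrank_D (hlF : (l : F) ≠ 0) : Module.finrank ℤ_[l] (TateMod (D F X.r) l (E F)) = X.r := by
  obtain ⟨ζ, h1, h2, h3⟩ := exists_system F l hlF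
  exact finrank_tate ζ h1 h2 h3

theorem finite_H [LocallyOfFiniteType H.hom] (hlF : (l : F) ≠ 0) [Module.Finite ℤ_[l] (TateMod X.B l (E F))] :
    Module.Finite ℤ_[l] (TateMod H l (E F)) := by
  have h1 := finite_D X l hlF
  let e₁ : TateMod (D F X.r) l (E F) ≃ₗ[ℤ_[l]] LinearMap.ker (tq X l) :=
    (LinearEquiv.ofInjective _ (ti_injective X l)).trans (LinearEquiv.ofEq _ _ (exact X l))
  let e₂ : (TateMod H l (E F) ⧸ LinearMap.ker (tq X l)) ≃ₗ[ℤ_[l]] TateMod X.B l (E F) :=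
    (tq X l).quotKerEquivOfSurjective (tq_surjective X l)
  have : Module.Finite ℤ_[l] (LinearMap.ker (tq X l)) := Module.Finite.equiv e₁
  have : Module.Finite ℤ_[l] (TateMod H l (E F) ⧸ LinearMap.ker (tq X l)) := Module.Finite.equiv e₂.symm
  exact Module.Finite.of_submodule_quotient (LinearMap.ker (tq X l))

theorem finrank_H [LocallyOfFiniteType H.hom] (hlF : (l : F) ≠ 0) [Module.Finite ℤ_[l] (TateMod X.B l (E F))]
    (hB : Module.finrank ℤ_[l] (TateMod X.B l (E F)) = 2 * X.a) :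
    Module.finrank ℤ_[l] (TateMod H l (E F)) = X.r + 2 * X.a := by
  have h0 := finite_H X l hlF
  let e₁ : TateMod (D F X.r) l (E F) ≃ₗ[ℤ_[l]] LinearMap.ker (tq X l) :=
    (LinearEquiv.ofInjective _ (ti_injective X l)).trans (LinearEquiv.ofEq _ _ (exact X l))
  let e₂ : (TateMod H l (E F) ⧸ LinearMap.ker (tq X l)) ≃ₗ[ℤ_[l]] TateMod X.B l (E F) :=
    (tq X l).quotKerEquivOfSurjective (tq_surjective X l)
  have h1 := Submodule.finrank_quotient_add_finrank (LinearMap.ker (tq X l))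
  rw [e₂.finrank_eq, ← e₁.finrank_eq, hB, finrank_D X l hlF] at h1
  omega

/-- the endomorphism of the Tate module of the torus -/
theorem charpoly_D (hlF : (l : F) ≠ 0) [Module.Free ℤ_[l] (TateMod (D F X.r) l (E F))]
    [Module.Finite ℤ_[l] (TateMod (D F X.r) l (E F))] :
    (tm (l := l) (psi X)).charpoly = ((Q : ℤ_[l]) • (X.M.map (Int.cast : ℤ → ℤ_[l]))).charpoly := by
  rw [charpoly_tate hlF X.φ (tm (psi X)) (fun _ _ => rfl), X.hM]
  congr 1
  exact map_smul' l Q X.M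

end str

section main

variable {F : Type u} [Field F] [IsAlgClosed F] {H : Over (Spec (CommRingCat.of F))} [GrpObj H] [IsCommMonObj H]
  [LocallyOfFiniteType H.hom] {u : H ⟶ H} [IsMonHom u] {Q n : ℕ} (X : Str H u Q n) (l : ℕ) [hl : Fact l.Prime]
  {S : Scheme.{u}} {G : Over S} [GrpObj G] [IsCommMonObj G] {K₀ Ω : Type u} [Field K₀] [Field Ω] [Algebra K₀ Ω]
  {A : Over (Spec (CommRingCat.of K₀))} [GrpObj A] [IsCommMonObj A]
  (θ : (𝟙_ (Over S) ⟶ G) →* SGA7.Pts Ω A) (bp : (𝟙_ (Over S) ⟶ G) →* (E F ⟶ H))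
  (sc : (𝟙_ (Over S) ⟶ G) →* (𝟙_ (Over S) ⟶ G)) (σ τ : Ω ≃ₐ[K₀] Ω)

/-- **The characteristic polynomial of `σ` on the `l`-adic Tate module.** -/
theorem charpoly_eq (hlF : (l : F) ≠ 0) (hQ : Q ≠ 0)
    (hθsc : ∀ g, θ (sc g) = SGA7.galAct σ (θ g)) (hbpsc : ∀ g, bp (sc g) = bp g ≫ u)
    (hbi : ∀ (n : ℕ) (g : 𝟙_ (Over S) ⟶ G), g ^ (l ^ n) = 1 → bp g = 1 → g = 1)
    (hbs : ∀ (n : ℕ) (y : E F ⟶ H), y ^ (l ^ n) = 1 → ∃ g, g ^ (l ^ n) = 1 ∧ bp g = y)
    (hθi : Function.Injective θ) (hθτ : ∀ g, SGA7.galAct τ (θ g) = θ g)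
    (hθs : ∀ x : TateMod A l (SGA7.pt Ω), (∀ n, SGA7.galAct τ (cp n x) = cp n x) → ∀ n, ∃ g, θ g = cp n x)
    (hd : ∀ (m : ℕ) (z : SGA7.Pts Ω A), z ^ (l ^ m) = 1 → ∃ g, θ g = SGA7.dev τ z ∧ bp g ≫ X.q = 1)
    (he : ∀ (m : ℕ) (z : SGA7.Pts Ω A), z ^ (l ^ m) = 1 →
      SGA7.galAct σ (SGA7.dev τ z) = (SGA7.dev τ (SGA7.galAct σ z)) ^ Q)
    (ρ : (Ω ≃ₐ[K₀] Ω) → Module.End ℤ_[l] (TateMod A l (SGA7.pt Ω)))
    (hρ : ∀ (τ : Ω ≃ₐ[K₀] Ω) (z : TateMod A l (SGA7.pt Ω)) (m : ℕ), cp m (ρ τ z) = SGA7.galAct τ (cp m z))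
    [Module.Free ℤ_[l] (TateMod A l (SGA7.pt Ω))] [Module.Finite ℤ_[l] (TateMod A l (SGA7.pt Ω))]
    (hrank : Module.finrank ℤ_[l] (TateMod A l (SGA7.pt Ω)) = 2 * n)
    [Module.Free ℤ_[l] (TateMod X.B l (E F))] [Module.Finite ℤ_[l] (TateMod X.B l (E F))]
    (hrB : Module.finrank ℤ_[l] (TateMod X.B l (E F)) = 2 * X.a) (PB : ℤ[X])
    (hPB : (tateMapₗ (l := l) (T := E F) X.uB).charpoly = PB.map (Int.castRingHom ℤ_[l])) :
    (ρ σ).charpoly = (X.M.charpoly * ((Q : ℤ) • X.M).charpoly * PB).map (Int.castRingHom ℤ_[l]) := by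
  have f1 := free_D X l hlF
  have f2 := finite_D X l hlF
  have f3 := finite_H X l hlF
  have f4 : Module.Free ℤ_[l] (TateMod H l (E F)) := inferInstance
  -- sections and special points
  let eb : TateMod G l (𝟙_ (Over S)) ≃ₗ[ℤ_[l]] TateMod H l (E F) :=
    LinearEquiv.ofBijective (tm bp) ⟨tm_injective bp hbi, tm_surjective bp hbi hbs⟩
  have heb : ∀ y, eb y = tm bp y := fun _ => rfl
  let κ : TateMod H l (E F) →ₗ[ℤ_[l]] TateMod A l (SGA7.pt Ω) := (tm θ) ∘ₗ eb.symm.toLinearMap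
  have hκb : ∀ y, κ (tm bp y) = tm θ y := by
    intro y
    change tm θ (eb.symm (eb y)) = _
    rw [LinearEquiv.symm_apply_apply]
  have hθi' : ∀ g : 𝟙_ (Over S) ⟶ G, θ g = 1 → g = 1 := fun g hg => hθi (hg.trans (map_one θ).symm)
  -- lifting compatible systems
  have lift : ∀ x : TateMod A l (SGA7.pt Ω), (f : ℕ → (𝟙_ (Over S) ⟶ G)) → (∀ n, θ (f n) = cp n x) →
      ∃ y : TateMod G l (𝟙_ (Over S)), (∀ n, cp n y = f n) ∧ tm θ y = x := by
    intro x f hf
    refine ⟨mk' f (hθi' _ ((hf 0).trans (cp_zero x))) fun n => hθi ?_, fun n => cp_mk' _ _ _ n, ext_cp fun n => ?_⟩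
    · rw [map_pow, hf, hf, cp_succ]
    · rw [cp_tm, cp_mk', hf]
  let N : Module.End ℤ_[l] (TateMod A l (SGA7.pt Ω)) := ρ τ - 1
  have hN : ∀ x n, cp n (N x) = SGA7.dev τ (cp n x) := by
    intro x n
    change cp n (ρ τ x - x) = _
    rw [cp_sub, hρ, SGA7.dev, div_eq_mul_inv]
  have hQ' : (Q : ℤ_[l]) ≠ 0 := by exact_mod_cast hQ
  have key := CharLin.main N (ρ σ) (Q : ℤ_[l]) hQ' (fun x => ext_cp fun n => by
      rw [hρ, hN, he n _ (cp_pow n x), cp_natCast_smul, hN, hρ])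
    κ (by
      intro x y hxy
      obtain ⟨x, rfl⟩ := eb.surjective x
      obtain ⟨y, rfl⟩ := eb.surjective y
      rw [heb, heb, hκb, hκb] at hxy
      exact congrArg eb (tm_injective θ (fun _ g _ hg => hθi' g hg) hxy))
    (by
      ext x
      rw [LinearMap.mem_range, LinearMap.mem_ker]
      constructor
      · rintro ⟨y, rfl⟩
        obtain ⟨y, rfl⟩ := eb.surjective y
        rw [heb, hκb]
        refine ext_cp fun n => ?_
        rw [hN, cp_tm, SGA7.dev, hθτ, mul_inv_cancel]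
        rfl
      · intro hx
        have h1 : ∀ n, SGA7.galAct τ (cp n x) = cp n x := by
          intro n
          have h2 := hN x n
          rw [hx] at h2
          exact mul_inv_eq_one.1 h2.symm
        choose f hf using hθs x h1
        obtain ⟨y, -, hy⟩ := lift x f hf
        exact ⟨tm bp y, by rw [hκb, hy]⟩)
    (ti X l) (ti_injective X l) (tq X l) (tq_surjective X l) (exact X l)
    (tm (postHom u)) (tm (psi X)) (tateMapₗ (l := l) (T := E F) X.uB)
    (fun x => by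
      obtain ⟨y, rfl⟩ := eb.surjective x
      rw [heb, hκb]
      have h1 : tm (l := l) (postHom u) (tm bp y) = tm bp (tm sc y) := ext_cp fun n => (hbpsc _).symm
      rw [h1, hκb]
      refine ext_cp fun n => ?_
      rw [hρ]
      exact hθsc _)
    (fun x => ext_cp fun n => by
      change (cp n x ≫ Red.DSmap (Spec (CommRingCat.of F)) X.φ) ≫ X.i = (cp n x ≫ X.i) ≫ u
      rw [Category.assoc, ← X.hφ, Category.assoc])
    (fun x => ext_cp fun n => by
      change (cp n x ≫ u) ≫ X.q = (cp n x ≫ X.q) ≫ X.uB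
      rw [Category.assoc, ← X.hquB, Category.assoc])
    (fun x => by
      choose g hg hg' using fun n => hd n (cp n x) (cp_pow n x)
      obtain ⟨y', hy', hy⟩ := lift (N x) g (fun n => by rw [hg, hN])
      have h1 : tm (l := l) bp y' ∈ LinearMap.ker (tq X l) := by
        rw [LinearMap.mem_ker]
        refine ext_cp fun n => ?_
        change bp (cp n y') ≫ X.q = 1
        rw [hy', hg']
      rw [← exact X l] at h1
      obtain ⟨y, hy2⟩ := h1
      exact ⟨y, by rw [hy2, hκb, hy]⟩)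
    (by
      have h := X.hn
      rw [finrank_D X l hlF, finrank_H X l hlF hrB, hrank]
      omega)
    (X.M.map (Int.cast : ℤ → ℤ_[l])) (charpoly_D X l hlF)
  rw [key, hPB, Polynomial.map_mul, Polynomial.map_mul]
  congr 2
  · exact Matrix.charpoly_map X.M (Int.castRingHom ℤ_[l])
  · rw [← Matrix.charpoly_map]
    congr 1
    exact (map_smul' l Q X.M).symm

end main

end K222.PerL
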