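import Groth.Agent.SGA7.K222.InfPt
import Groth.Agent.Sga3B.BcPts
import Groth.Agent.Sga3B.Pts

/-!
# Semilinear endomorphisms and the special fibre

`N` a group scheme over `S`, `φ : N → N` a homomorphism over the automorphism `s'` of `S` (inverse to `s`), `t : Spec F → S`
a geometric point on which `s` induces the `Q`-Frobenius: the composite of the Frobenius and of `φ` is an endomorphism of
the group scheme `N_F` over `F`, compatible with the action of `s` and `φ` on the sections.
-/

set_option autoImplicit false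
universe u

open CategoryTheory MonoidalCategory CartesianMonoidalCategory MonObj AlgebraicGeometry Limits

namespace K222.Semi

open Groth.Agent.Sga3B.BcPts InfPt TorusTate

section bc

variable {S S' : Scheme.{u}} (f : S' ⟶ S) {T : Over S'} {G : Over S} [GrpObj G]

theorem bc_fst (g : (Over.map f).obj T ⟶ G) :
    (bcMulEquiv f T G g).left ≫ pullback.fst G.hom f = g.left :=
  Groth.Agent.Sga3B.DSPts.bcEquiv_fst f T G g

theorem bc_symm_left (g : T ⟶ Red.bc f G) :
    ((bcMulEquiv f T G).symm g).left = g.left ≫ pullback.fst G.hom f := by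
  rw [← bc_fst, MulEquiv.apply_symm_apply]

omit [GrpObj G] in
theorem bc_ext {x y : T ⟶ Red.bc f G} (h : x.left ≫ pullback.fst G.hom f = y.left ≫ pullback.fst G.hom f) : x = y := by
  ext1
  apply pullback.hom_ext h
  exact (Over.w x).trans (Over.w y).symm

end bc

section push

variable {S : Scheme.{u}} {s' : S ⟶ S} {N : Over S} [GrpObj N] (φ : (Over.map s').obj N ⟶ N)

/-- the push forward of points -/
def push {Y : Over S} (a : Y ⟶ N) : (Over.map s').obj Y ⟶ N := (Over.map s').map a ≫ φ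

omit [GrpObj N] in
theorem push_left {Y : Over S} (a : Y ⟶ N) : (push φ a).left = a.left ≫ φ.left := rfl

/-- `φ` is a semilinear homomorphism. -/
def SL : Prop := ∀ (Y : Over S) (a b : Y ⟶ N), push φ (a * b) = push φ a * push φ b

end push

section main

variable {S : Scheme.{u}} {s s' : S ⟶ S} (hs : s ≫ s' = 𝟙 S) {N : Over S} [GrpObj N]
  (φ : (Over.map s').obj N ⟶ N) (hφ : SL φ) {F : Type u} [Field F] {Q : ℕ} (h : FrobOK F Q)
  (t : Spec (CommRingCat.of F) ⟶ S)
  (ht : ∀ ρ : Spec (CommRingCat.of F) ⟶ Spec (CommRingCat.of F), K520.Frob.IsFrob Q ρ → ρ ≫ t = t ≫ s)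

/-- the Frobenius -/
noncomputable def fr (X : Over (Spec (CommRingCat.of F))) : X.left ⟶ X.left := (h.exists_isFrob X.hom).choose

theorem isFrob_fr (X : Over (Spec (CommRingCat.of F))) : K520.Frob.IsFrob Q (fr h X) :=
  (h.exists_isFrob X.hom).choose_spec

include hs ht in
theorem fr_hom (X : Over (Spec (CommRingCat.of F))) : fr h X ≫ (X.hom ≫ t) ≫ s' = X.hom ≫ t := by
  have h1 := (isFrob_fr h X).comm (isFrob_fr h (E F)) X.hom
  have h2 := ht _ (isFrob_fr h (E F))
  calc fr h X ≫ (X.hom ≫ t) ≫ s' = (fr h X ≫ X.hom) ≫ t ≫ s' := by simp only [Category.assoc]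
    _ = (X.hom ≫ fr h (E F)) ≫ t ≫ s' := by rw [h1]
    _ = X.hom ≫ (fr h (E F) ≫ t) ≫ s' := by simp only [Category.assoc]
    _ = X.hom ≫ (t ≫ s) ≫ s' := by rw [h2]
    _ = X.hom ≫ t := by rw [Category.assoc, hs, Category.comp_id]

/-- the Frobenius over `S` -/
noncomputable def vp (X : Over (Spec (CommRingCat.of F))) :
    (Over.map t).obj X ⟶ (Over.map s').obj ((Over.map t).obj X) :=
  Over.homMk (fr h X) (fr_hom hs h t ht X)

/-- the operator on points -/
noncomputable def U (X : Over (Spec (CommRingCat.of F))) : (X ⟶ Red.bc t N) →* (X ⟶ Red.bc t N) where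
  toFun x := bcMulEquiv t X N (vp hs h t ht X ≫ push φ ((bcMulEquiv t X N).symm x))
  map_one' := by
    have h1 : push φ ((1 : (Over.map t).obj X ⟶ N)) = 1 := by
      have h2 := hφ ((Over.map t).obj X) 1 1
      have h3 : (1 * 1 : (Over.map t).obj X ⟶ N) = 1 := _root_.mul_one _
      rw [h3] at h2
      exact mul_eq_left.mp h2.symm
    rw [map_one, h1, MonObj.comp_one, map_one]
  map_mul' x y := by
    rw [map_mul, hφ, MonObj.comp_mul, map_mul]

theorem U_fst (X : Over (Spec (CommRingCat.of F))) (x : X ⟶ Red.bc t N) :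
    (U hs φ hφ h t ht X x).left ≫ pullback.fst N.hom t = fr h X ≫ (x.left ≫ pullback.fst N.hom t) ≫ φ.left := by
  change (bcMulEquiv t X N _).left ≫ _ = _
  rw [bc_fst, Over.comp_left, push_left, bc_symm_left]
  rfl

/-- **The endomorphism of the special fibre** -/
noncomputable def u : Red.bc t N ⟶ Red.bc t N := U hs φ hφ h t ht (Red.bc t N) (𝟙 _)

theorem comp_u_eq (X : Over (Spec (CommRingCat.of F))) (x : X ⟶ Red.bc t N) :
    x ≫ u hs φ hφ h t ht = U hs φ hφ h t ht X x := by
  apply bc_ext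
  rw [U_fst, Over.comp_left, Category.assoc, u, U_fst, Over.id_left, Category.id_comp,
    ← Category.assoc, ← (isFrob_fr h X).comm (isFrob_fr h (Red.bc t N)) x.left]
  simp only [Category.assoc]

theorem comp_u (X : Over (Spec (CommRingCat.of F))) (x : X ⟶ Red.bc t N) :
    (x ≫ u hs φ hφ h t ht).left ≫ pullback.fst N.hom t = fr h X ≫ (x.left ≫ pullback.fst N.hom t) ≫ φ.left := by
  rw [comp_u_eq, U_fst]

theorem isMonHom_u : IsMonHom (u hs φ hφ h t ht) :=
  Groth.Agent.Sga3B.Pts.isMonHom_of_points _ fun X x y => by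
    rw [comp_u_eq, comp_u_eq, comp_u_eq, map_mul]

/-- the endomorphism kills the infinitesimal points -/
theorem kills (x : T F Q ⟶ Red.bc t N) (hx : t0 h.ne_zero ≫ x = 1) : x ≫ u hs φ hφ h t ht = 1 := by
  have h1 : (tE (F := F) (Q := Q)) ≫ (t0 h.ne_zero ≫ x) ≫ u hs φ hφ h t ht = x ≫ u hs φ hφ h t ht := by
    apply bc_ext
    rw [comp_u, Over.comp_left, Category.assoc, comp_u,
      frob_eq h (fr h (T F Q)) (isFrob_fr h (T F Q)) (fr h (E F)) (isFrob_fr h (E F)), Over.comp_left]
    simp only [Category.assoc]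
  have := isMonHom_u hs φ hφ h t ht
  rw [← h1, hx, MonObj.one_comp, MonObj.comp_one]

/-! ### sections -/

/-- the action on sections -/
noncomputable def sc : (𝟙_ (Over S) ⟶ N) →* (𝟙_ (Over S) ⟶ N) where
  toFun g := (Over.homMk s (by
      change s ≫ (𝟙 S) ≫ s' = 𝟙 S
      rw [Category.id_comp, hs]) : 𝟙_ (Over S) ⟶ (Over.map s').obj (𝟙_ (Over S))) ≫ push φ g
  map_one' := by
    have h1 : push φ ((1 : 𝟙_ (Over S) ⟶ N)) = 1 := by
      have h2 := hφ (𝟙_ (Over S)) 1 1
      have h3 : (1 * 1 : 𝟙_ (Over S) ⟶ N) = 1 := _root_.mul_one _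
      rw [h3] at h2
      exact mul_eq_left.mp h2.symm
    rw [h1, MonObj.comp_one]
  map_mul' x y := by
    rw [hφ, MonObj.comp_mul]

theorem sc_left (g : 𝟙_ (Over S) ⟶ N) : (sc hs φ hφ g).left = s ≫ g.left ≫ φ.left := rfl

/-- restriction of a section to the point -/
noncomputable def sp : (𝟙_ (Over S) ⟶ N) →* (E F ⟶ Red.bc t N) :=
  (bcMulEquiv t (E F) N).toMonoidHom.comp 
    { toFun := fun g => (Over.homMk t (Category.comp_id _) : (Over.map t).obj (E F) ⟶ 𝟙_ (Over S)) ≫ g
      map_one' := MonObj.comp_one _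
      map_mul' := fun x y => MonObj.comp_mul _ x y }

theorem sp_fst (g : 𝟙_ (Over S) ⟶ N) : (sp (N := N) t g).left ≫ pullback.fst N.hom t = t ≫ g.left := by
  change (bcMulEquiv t (E F) N _).left ≫ _ = _
  rw [bc_fst]
  rfl

/-- **compatibility on sections** -/
theorem sp_sc (g : 𝟙_ (Over S) ⟶ N) : sp t (sc hs φ hφ g) = sp t g ≫ u hs φ hφ h t ht := by
  apply bc_ext
  rw [sp_fst, comp_u, sp_fst, sc_left]
  have h2 := ht _ (isFrob_fr h (E F))
  simp only [← Category.assoc]
  rw [h2]

end main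

end K222.Semi
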