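import Groth.Agent.SGA7.K222.NerSemi
import Groth.Agent.SGA7.K222.TateGrp

/-!
# Sections of the Néron model and geometric points of the abelian variety

`th g`: the geometric point of `A` given by a section of `N`; `th_sc`: the semilinear action on sections is the Galois
action on geometric points.
-/

set_option autoImplicit false
set_option linter.unusedSectionVars false
universe u

open CategoryTheory MonoidalCategory CartesianMonoidalCategory MonObj AlgebraicGeometry Limits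

namespace K222.ThetaA

open Groth.Agent.Sga3B.BcPts Semi NerSemi

section

variable {R K K₀ : Type u} [CommRing R] [Field K] [Algebra R K] [Field K₀] [Algebra K₀ K]
  {N : Over (Spec (CommRingCat.of R))} [GrpObj N] {A : Over (Spec (CommRingCat.of K₀))} [GrpObj A]
  (e : (SGA7.genFib R K).obj N ≅ Red.bc (spm K₀ K) A) [IsMonHom e.hom]

theorem al_nat {X X' : Over (Spec (CommRingCat.of K))} (h : X' ⟶ X) (x : (Over.map (spm R K)).obj X ⟶ N) :
    al e X' ((Over.map (spm R K)).map h ≫ x) = (Over.map (spm K₀ K)).map h ≫ al e X x := by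
  apply (bcMulEquiv (spm K₀ K) X' A).injective
  have h1 : bcMulEquiv (spm R K) X' N ((Over.map (spm R K)).map h ≫ x) = h ≫ bcMulEquiv (spm R K) X N x :=
    comp_bcEquiv _ h x
  have h2 : bcMulEquiv (spm K₀ K) X' A ((Over.map (spm K₀ K)).map h ≫ al e X x) =
      h ≫ bcMulEquiv (spm K₀ K) X A (al e X x) := comp_bcEquiv _ h _
  rw [h2]
  change bcMulEquiv (spm K₀ K) X' A ((bcMulEquiv (spm K₀ K) X' A).symm
      (bcMulEquiv (spm R K) X' N ((Over.map (spm R K)).map h ≫ x) ≫ e.hom)) =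
    h ≫ bcMulEquiv (spm K₀ K) X A ((bcMulEquiv (spm K₀ K) X A).symm (bcMulEquiv (spm R K) X N x ≫ e.hom))
  rw [MulEquiv.apply_symm_apply, MulEquiv.apply_symm_apply, h1, Category.assoc]

end

section theta

variable {R K K₀ Ω : Type u} [CommRing R] [Field K] [Algebra R K] [Field K₀] [Algebra K₀ K] [Field Ω] [Algebra K Ω]
  [Algebra K₀ Ω] [IsScalarTower K₀ K Ω]
  {N : Over (Spec (CommRingCat.of R))} [GrpObj N] {A : Over (Spec (CommRingCat.of K₀))} [GrpObj A]
  (e : (SGA7.genFib R K).obj N ≅ Red.bc (spm K₀ K) A) [IsMonHom e.hom]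

/-- identification of `Spec Ω` over `K₀` -/
noncomputable def mu : (SGA7.pt Ω : Over (Spec (CommRingCat.of K₀))) ⟶ (Over.map (spm K₀ K)).obj (SGA7.pt Ω) :=
  Over.homMk (𝟙 _) (by
    change 𝟙 _ ≫ Spec.map _ ≫ Spec.map _ = Spec.map _
    rw [Category.id_comp, ← Spec.map_comp, ← CommRingCat.ofHom_comp, ← IsScalarTower.algebraMap_eq])

variable (Ω) in
/-- the geometric generic point of a section -/
noncomputable def gp : (𝟙_ (Over (Spec (CommRingCat.of R))) ⟶ N) →* ((Over.map (spm R K)).obj (SGA7.pt Ω) ⟶ N) where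
  toFun g := (Over.homMk ((SGA7.pt Ω : Over (Spec (CommRingCat.of K))).hom ≫ spm R K) (Category.comp_id _) :
    (Over.map (spm R K)).obj (SGA7.pt Ω) ⟶ 𝟙_ (Over (Spec (CommRingCat.of R)))) ≫ g
  map_one' := MonObj.comp_one _
  map_mul' x y := MonObj.comp_mul _ x y

/-- points with values in `Ω` -/
noncomputable def ptHom : ((Over.map (spm K₀ K)).obj (SGA7.pt Ω) ⟶ A) →* SGA7.Pts Ω A where
  toFun x := mu ≫ x
  map_one' := MonObj.comp_one _
  map_mul' x y := MonObj.comp_mul _ x y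

variable (Ω) in
/-- **the geometric point of `A` attached to a section of `N`** -/
noncomputable def th : (𝟙_ (Over (Spec (CommRingCat.of R))) ⟶ N) →* SGA7.Pts Ω A :=
  ptHom.comp ((al e (SGA7.pt Ω)).toMonoidHom.comp (gp Ω))

theorem th_left (g : 𝟙_ (Over (Spec (CommRingCat.of R))) ⟶ N) :
    (th Ω e g).left = (al e (SGA7.pt Ω) (gp Ω g)).left := Category.id_comp _

variable {s s' : Spec (CommRingCat.of R) ⟶ Spec (CommRingCat.of R)} {sK sK' : Spec (CommRingCat.of K) ⟶ Spec (CommRingCat.of K)}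
  [IsIso s'] [IsIso sK'] (h1 : spm R K ≫ s' = sK' ≫ spm R K) (h1s : spm R K ≫ s = sK ≫ spm R K)
  (h2 : sK' ≫ spm K₀ K = spm K₀ K)
  (hs : s ≫ s' = 𝟙 _) (hsK : sK ≫ sK' = 𝟙 _) {φ : (Over.map s').obj N ⟶ N} (hφ : jN e ≫ φ.left = phA h2 ≫ jN e)
  (hsl : SL φ)
  (σ : Ω ≃ₐ[K₀] Ω) (hσ : Spec.map (CommRingCat.ofHom (σ : Ω →+* Ω)) ≫ spm K Ω = spm K Ω ≫ sK)

include h1 h1s hsK hφ hσ in
/-- **Compatibility with the Galois action.** -/
theorem th_sc (g : 𝟙_ (Over (Spec (CommRingCat.of R))) ⟶ N) :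
    th Ω e (sc hs φ hsl g) = SGA7.galAct σ (th Ω e g) := by
  ext1
  change _ = Spec.map (CommRingCat.ofHom (σ : Ω →+* Ω)) ≫ (th Ω e g).left
  rw [th_left, th_left]
  let sσ : Spec (CommRingCat.of Ω) ⟶ Spec (CommRingCat.of Ω) := Spec.map (CommRingCat.ofHom (σ : Ω →+* Ω))
  let X : Over (Spec (CommRingCat.of K)) := Over.mk (sσ ≫ spm K Ω)
  let h' : X ⟶ SGA7.pt Ω := Over.homMk sσ rfl
  let h : SGA7.pt Ω ⟶ (Over.map sK').obj X := Over.homMk (𝟙 _) (by
    change 𝟙 _ ≫ (sσ ≫ spm K Ω) ≫ sK' = spm K Ω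
    rw [Category.id_comp, hσ, Category.assoc, hsK, Category.comp_id])
  have h3 : gp Ω (sc hs φ hsl g) = (Over.map (spm R K)).map h ≫ tw (φ := φ) h1 ((Over.map (spm R K)).map h' ≫ gp Ω g) := by
    ext1
    rw [Over.comp_left, tw_left]
    change (spm K Ω ≫ spm R K) ≫ s ≫ g.left ≫ φ.left = 𝟙 _ ≫ (sσ ≫ (spm K Ω ≫ spm R K) ≫ g.left) ≫ φ.left
    rw [Category.id_comp]
    simp only [Category.assoc]
    rw [← Category.assoc (spm R K) s, h1s]
    simp only [← Category.assoc]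
    rw [hσ]
  rw [h3, al_nat, Over.comp_left, al_tw h1 h2 hφ, al_nat]
  change 𝟙 _ ≫ sσ ≫ _ = _
  rw [Category.id_comp]

end theta

end K222.ThetaA
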