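import Groth.Agent.SGA7.K222.TateGrp
import Groth.Agent.Sga3B.DSPts
import Mathlib.FieldTheory.IsAlgClosed.Basic
import Mathlib.RingTheory.RootsOfUnity.AlgebraicallyClosed
import Mathlib.LinearAlgebra.Charpoly.ToMatrix

/-!
# The Tate module of a split torus over an algebraically closed field

`D = D(ℤ^r)` over the algebraically closed field `F`, `l` a prime invertible in `F`: the Tate module is free of rank
`r`, and the characteristic polynomial of the endomorphism attached to `φ : ℤ^r → ℤ^r` is the one of the matrix of `φ`.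
-/

set_option autoImplicit false
universe u

open CategoryTheory MonoidalCategory CartesianMonoidalCategory MonObj AlgebraicGeometry AbDual

namespace K222.TorusTate

open TateGrp Groth.Agent.Sga3B.DSPts

section points

variable (F : Type u) [Field F] (r : ℕ)

/-- the final object -/
noncomputable abbrev E : Over (Spec (CommRingCat.of F)) := Over.mk (𝟙 (Spec (CommRingCat.of F)))

/-- the split torus of rank `r` -/
noncomputable abbrev D : Over (Spec (CommRingCat.of F)) := Red.DS (Spec (CommRingCat.of F)) (Fin r → ℤ)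

/-- global functions -/
noncomputable def glo : F ≃+* Γ((E F).left, ⊤) :=
  (Scheme.ΓSpecIso (CommRingCat.of F)).symm.commRingCatIsoToRingEquiv

variable {F r}

/-- values of characters at a point -/
noncomputable def chv (x : E F ⟶ D F r) (m : Fin r → ℤ) : F :=
  (glo F).symm (dsChar x (Multiplicative.ofAdd m))

theorem chv_mul (x y : E F ⟶ D F r) (m : Fin r → ℤ) : chv (x * y) m = chv x m * chv y m := by
  rw [chv, dsChar_mul, MonoidHom.mul_apply, map_mul]
  rfl

theorem chv_add (x : E F ⟶ D F r) (m m' : Fin r → ℤ) : chv x (m + m') = chv x m * chv x m' := by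
  rw [chv, ofAdd_add, map_mul, map_mul]
  rfl

theorem chv_zero (x : E F ⟶ D F r) : chv x 0 = 1 := by
  rw [chv, ofAdd_zero, map_one, map_one]

theorem chv_ne_zero (x : E F ⟶ D F r) (m : Fin r → ℤ) : chv x m ≠ 0 := by
  intro h
  have h1 := chv_add x m (-m)
  rw [add_neg_cancel, chv_zero, h, zero_mul] at h1
  exact one_ne_zero h1

/-- the values as a homomorphism -/
noncomputable def chM (m : Fin r → ℤ) : (E F ⟶ D F r) →* F where
  toFun x := chv x m
  map_one' := by
    change (glo F).symm ((dsEquiv (E F) (Fin r → ℤ)).symm 1 (Multiplicative.ofAdd m)) = 1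
    rw [map_one, MonoidHom.one_apply, map_one]
  map_mul' x y := chv_mul x y m

theorem chM_apply (m : Fin r → ℤ) (x : E F ⟶ D F r) : chM m x = chv x m := rfl

theorem chv_one (m : Fin r → ℤ) : chv (1 : E F ⟶ D F r) m = 1 := map_one (chM m)

theorem chv_pow (x : E F ⟶ D F r) (n : ℕ) (m : Fin r → ℤ) : chv (x ^ n) m = chv x m ^ n := map_pow (chM m) x n

theorem ext_chv {x y : E F ⟶ D F r} (h : ∀ m, chv x m = chv y m) : x = y := by
  apply (dsEquiv (E F) (Fin r → ℤ)).symm.injective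
  apply MonoidHom.ext
  intro m
  exact (glo F).symm.injective (h m.toAdd)

/-- the values as a homomorphism on characters -/
noncomputable def chA (x : E F ⟶ D F r) : Multiplicative (Fin r → ℤ) →* Fˣ where
  toFun m := Units.mk0 (chv x m.toAdd) (chv_ne_zero x _)
  map_one' := Units.ext (chv_zero x)
  map_mul' a b := Units.ext (chv_add x a.toAdd b.toAdd)

theorem chA_apply (x : E F ⟶ D F r) (m : Fin r → ℤ) : (chA x (Multiplicative.ofAdd m) : F) = chv x m := rfl

theorem ext_single {x y : E F ⟶ D F r} (h : ∀ j, chv x (Pi.single j 1) = chv y (Pi.single j 1)) : x = y := by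
  have h1 : MonoidHom.toAdditive (chA x) = MonoidHom.toAdditive (chA y) := by
    refine AddMonoidHom.functions_ext _ _ _ fun j n => ?_
    have h2 : (Pi.single j n : Fin r → ℤ) = n • (Pi.single j 1 : Fin r → ℤ) := by
      rw [← Pi.single_smul, smul_eq_mul, _root_.mul_one]
    have h3 : Additive.ofMul (Multiplicative.ofAdd (Pi.single j n : Fin r → ℤ)) =
        n • Additive.ofMul (Multiplicative.ofAdd (Pi.single j 1 : Fin r → ℤ)) := by
      rw [h2]; rfl
    change MonoidHom.toAdditive (chA x) (Additive.ofMul (Multiplicative.ofAdd (Pi.single j n : Fin r → ℤ))) =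
      MonoidHom.toAdditive (chA y) (Additive.ofMul (Multiplicative.ofAdd (Pi.single j n : Fin r → ℤ)))
    rw [h3, map_zsmul, map_zsmul]
    congr 1
    apply Additive.toMul.injective
    apply Units.ext
    exact h j
  refine ext_chv fun m => ?_
  have h2 := DFunLike.congr_fun h1 (Additive.ofMul (Multiplicative.ofAdd m))
  have h3 := congrArg (fun z => ((Additive.toMul z : Fˣ) : F)) h2
  exact h3

/-- the point attached to a homomorphism `ℤ^r → ℤ` and a unit -/
noncomputable def pt (z : Fˣ) (f : (Fin r → ℤ) →+ ℤ) : E F ⟶ D F r :=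
  dsEquiv (E F) (Fin r → ℤ) (((glo F : F →* Γ((E F).left, ⊤)).comp (Units.coeHom F)).comp
    ((zpowersHom Fˣ z).comp (AddMonoidHom.toMultiplicative f)))

theorem chv_pt (z : Fˣ) (f : (Fin r → ℤ) →+ ℤ) (m : Fin r → ℤ) : chv (pt z f) m = ((z ^ (f m) : Fˣ) : F) := by
  rw [chv, pt, dsChar_dsEquiv]
  change (glo F).symm ((glo F) _) = _
  rw [RingEquiv.symm_apply_apply]
  rfl

/-- the `j`-th one-parameter group -/
noncomputable def ptj (j : Fin r) (z : Fˣ) : E F ⟶ D F r := pt z (Pi.evalAddMonoidHom _ j)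

theorem chv_ptj (j : Fin r) (z : Fˣ) (m : Fin r → ℤ) : chv (ptj j z) m = ((z ^ (m j) : Fˣ) : F) :=
  chv_pt z _ m

theorem chv_ptj_single (j i : Fin r) (z : Fˣ) : chv (ptj j z) (Pi.single i 1) = if i = j then (z : F) else 1 := by
  rw [chv_ptj]
  split_ifs with h
  · subst h
    rw [Pi.single_eq_same, zpow_one]
  · rw [Pi.single_eq_of_ne (Ne.symm h), zpow_zero, Units.val_one]

theorem ptj_pow (j : Fin r) (z : Fˣ) (n : ℕ) : ptj j z ^ n = ptj j (z ^ n) := by
  refine ext_chv fun m => ?_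
  rw [chv_pow, chv_ptj, chv_ptj, ← Units.val_pow_eq_pow_val, ← zpow_natCast, ← zpow_natCast, ← zpow_mul, ← zpow_mul,
    mul_comm]

theorem ptj_one (j : Fin r) : ptj j (1 : Fˣ) = (1 : E F ⟶ D F r) := by
  refine ext_chv fun m => ?_
  rw [chv_ptj, chv_one, one_zpow, Units.val_one]

theorem prod_ptj_single (z : Fin r → Fˣ) (i : Fin r) :
    chv (∏ j, ptj j (z j)) (Pi.single i 1) = (z i : F) := by
  rw [← chM_apply, map_prod]
  rw [Finset.prod_eq_single i]
  · rw [chM_apply, chv_ptj_single, if_pos rfl]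
  · intro j _ hj
    rw [chM_apply, chv_ptj_single, if_neg (Ne.symm hj)]
  · intro h; exact absurd (Finset.mem_univ _) h

/-- The group of points of a split torus over an algebraically closed field is divisible. -/
theorem exists_pow_eq [IsAlgClosed F] {n : ℕ} (hn : n ≠ 0) (x : E F ⟶ D F r) : ∃ y : E F ⟶ D F r, y ^ n = x := by
  have h1 : ∀ j : Fin r, ∃ w : Fˣ, w ^ n = chA x (Multiplicative.ofAdd (Pi.single j 1)) := by
    intro j
    obtain ⟨w, hw⟩ := IsAlgClosed.exists_pow_nat_eq (chv x (Pi.single j 1)) (Nat.pos_of_ne_zero hn)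
    have hw0 : w ≠ 0 := by
      rintro rfl
      rw [zero_pow hn] at hw
      exact chv_ne_zero x _ hw.symm
    exact ⟨Units.mk0 w hw0, Units.ext (by rw [Units.val_pow_eq_pow_val, Units.val_mk0, hw]; rfl)⟩
  choose w hw using h1
  refine ⟨∏ j, ptj j (w j), ext_single fun i => ?_⟩
  rw [chv_pow, prod_ptj_single, ← Units.val_pow_eq_pow_val, hw]
  rfl

/-- the effect of `D(φ)` on the values -/
theorem chv_DSmap (φ : (Fin r → ℤ) →+ (Fin r → ℤ)) (x : E F ⟶ D F r) (m : Fin r → ℤ) :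
    chv (x ≫ Red.DSmap (Spec (CommRingCat.of F)) φ) m = chv x (φ m) := by
  rw [chv, dsChar_DSmap]
  rfl

end points

/-! ### compatible systems of roots of unity -/

section roots

variable (F : Type u) [Field F] [IsAlgClosed F] (l : ℕ) [hl : Fact l.Prime]

theorem exists_system (hF : (l : F) ≠ 0) : ∃ ζ : ℕ → Fˣ, ζ 0 = 1 ∧ (∀ n, ζ (n + 1) ^ l = ζ n) ∧
    ∀ n, orderOf (ζ n) = l ^ n := by
  have hl0 : l ≠ 0 := hl.out.ne_zero
  have : NeZero (l : F) := ⟨hF⟩
  obtain ⟨w, hw⟩ := HasEnoughRootsOfUnity.exists_primitiveRoot F l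
  have hroot : ∀ z : Fˣ, ∃ y : Fˣ, y ^ l = z := by
    intro z
    obtain ⟨y, hy⟩ := IsAlgClosed.exists_pow_nat_eq (z : F) hl.out.pos
    have hy0 : y ≠ 0 := by
      rintro rfl
      rw [zero_pow hl0] at hy
      exact z.ne_zero hy.symm
    exact ⟨Units.mk0 y hy0, Units.ext (by rw [Units.val_pow_eq_pow_val, Units.val_mk0, hy])⟩
  choose rt hrt using hroot
  have hw0 : w ≠ 0 := hw.ne_zero hl0
  let w' : Fˣ := Units.mk0 w hw0
  have hw' : IsPrimitiveRoot w' l := by
    have : IsPrimitiveRoot (w' : F) l := hw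
    exact IsPrimitiveRoot.coe_units_iff.1 this
  let s : ℕ → Fˣ := fun n => rt^[n] w'
  have hs : ∀ n, s (n + 1) ^ l = s n := by
    intro n
    change (rt^[n + 1] w') ^ l = _
    rw [Function.iterate_succ_apply', hrt]
  have hs' : ∀ n, s n ^ (l ^ n) = w' := by
    intro n
    induction n with
    | zero => rw [pow_zero, pow_one]; rfl
    | succ n ih => rw [pow_succ', pow_mul, hs, ih]
  refine ⟨fun n => s n ^ l, hw'.pow_eq_one, fun n => congrArg (· ^ l) (hs n), fun n => ?_⟩
  cases n with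
  | zero => rw [pow_zero, orderOf_eq_one_iff]; exact hw'.pow_eq_one
  | succ n =>
    change orderOf (s (n + 1) ^ l) = _
    rw [hs]
    refine orderOf_eq_prime_pow ?_ ?_
    · rw [hs']; exact hw'.ne_one hl.out.one_lt
    · rw [pow_succ, pow_mul, hs', hw'.pow_eq_one]

end roots

section tate

variable {F : Type u} [Field F] {r : ℕ} {l : ℕ} [hl : Fact l.Prime] (ζ : ℕ → Fˣ)
  (hζ0 : ζ 0 = 1) (hζ : ∀ n, ζ (n + 1) ^ l = ζ n) 

/-- the basis vectors -/
noncomputable def bv (j : Fin r) : TateMod (D F r) l (E F) :=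
  mk' (fun n => ptj j (ζ n)) (by rw [hζ0, ptj_one]) (fun n => by rw [ptj_pow, hζ])

/-- the basis map -/
noncomputable def bm : (Fin r → ℤ_[l]) →ₗ[ℤ_[l]] TateMod (D F r) l (E F) :=
  Fintype.linearCombination ℤ_[l] (bv ζ hζ0 hζ)

omit hl in
theorem cp_sum {I : Type*} (s : Finset I) (f : I → TateMod (D F r) l (E F)) (n : ℕ) :
    cp n (∑ j ∈ s, f j) = ∏ j ∈ s, cp n (f j) := by
  have h := map_sum (TateMod.component (D F r) l (E F) n) f s
  exact congrArg Additive.toMul h

theorem chv_bm (n : ℕ) (c : Fin r → ℤ_[l]) (i : Fin r) :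
    chv (cp n (bm ζ hζ0 hζ c)) (Pi.single i 1) = ((ζ n ^ ((c i).appr n) : Fˣ) : F) := by
  rw [bm, Fintype.linearCombination_apply, cp_sum]
  have h : ∀ j, cp n (c j • bv ζ hζ0 hζ j) = ptj j (ζ n ^ ((c j).appr n)) := fun j => by
    rw [cp_smul, bv, cp_mk', ptj_pow]
  simp_rw [h]
  exact prod_ptj_single _ i

variable (hζ' : ∀ n, orderOf (ζ n) = l ^ n)

include hζ'

theorem bm_injective : Function.Injective (bm (r := r) ζ hζ0 hζ) := by
  rw [injective_iff_map_eq_zero]
  intro c hc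
  funext i
  have h1 : ∀ n, c i ∈ Ideal.span {((l : ℤ_[l]) ^ n)} := by
    intro n
    have h2 := chv_bm ζ hζ0 hζ n c i
    rw [hc, cp_one, chv_one] at h2
    have h3 : ζ n ^ ((c i).appr n) = 1 := Units.ext h2.symm
    have h4 := orderOf_dvd_of_pow_eq_one h3
    rw [hζ'] at h4
    have h5 := PadicInt.appr_spec n (c i)
    rw [Ideal.mem_span_singleton] at h5 ⊢
    have h6 : ((l : ℤ_[l]) ^ n) ∣ (((c i).appr n : ℕ) : ℤ_[l]) := by
      rw [← Nat.cast_pow]
      exact Nat.cast_dvd_cast h4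
    have h7 := dvd_add h5 h6
    rwa [sub_add_cancel] at h7
  change c i = 0
  by_contra h0
  obtain ⟨n, hn⟩ := PadicInt.exists_pow_neg_lt l (norm_pos_iff.2 h0)
  have h8 := h1 n
  rw [PadicInt.mem_span_pow_iff_le_valuation _ h0] at h8
  have h9 : ‖c i‖ ≤ (l : ℝ) ^ (-(n : ℤ)) := (PadicInt.norm_le_pow_iff_le_valuation _ h0 n).2 h8
  exact absurd hn (not_lt.2 h9)

theorem bm_surjective : Function.Surjective (bm (r := r) ζ hζ0 hζ) := by
  have h1 := K510.TateMod.isPrecomplete_pi (l := l) r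
  have h2 := K510.TateMod.isHausdorff (A := D F r) (l := l) (T := E F)
  apply surjective_of_mkQ_comp_surjective (I := Ideal.span {(l : ℤ_[l])})
  intro y
  obtain ⟨x, rfl⟩ := Submodule.mkQ_surjective _ y
  have h3 : ∀ i : Fin r, ∃ a : ℤ_[l], ((ζ 1 ^ (a.appr 1) : Fˣ) : F) = chv (cp 1 x) (Pi.single i 1) := by
    intro i
    have h4 : chA (cp 1 x) (Multiplicative.ofAdd (Pi.single i 1)) ^ l = 1 := by
      apply Units.ext
      rw [Units.val_pow_eq_pow_val, chA_apply, ← chv_pow]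
      have h5 := cp_pow 1 x
      rw [pow_one] at h5
      rw [h5, chv_one, Units.val_one]
    have h6 : IsPrimitiveRoot (ζ 1) l := by
      rw [IsPrimitiveRoot.iff_orderOf, hζ', pow_one]
    have : NeZero l := ⟨hl.out.ne_zero⟩
    obtain ⟨a, -, ha'⟩ := (IsPrimitiveRoot.coe_units_iff.2 h6).eq_pow_of_pow_eq_one
      (ξ := ((chA (cp 1 x) (Multiplicative.ofAdd (Pi.single i 1)) : Fˣ) : F)) (by
        rw [← Units.val_pow_eq_pow_val, h4, Units.val_one])
    have ha : ζ 1 ^ a = chA (cp 1 x) (Multiplicative.ofAdd (Pi.single i 1)) := Units.ext (by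
      rw [Units.val_pow_eq_pow_val, ha'])
    refine ⟨(a : ℤ_[l]), ?_⟩
    have h7 : ζ 1 ^ ((a : ℤ_[l]).appr 1) = ζ 1 ^ a := by
      rw [pow_eq_pow_iff_modEq, hζ']
      have h8 := PadicInt.appr_spec 1 (a : ℤ_[l])
      rw [Ideal.mem_span_singleton] at h8
      have h9 : ((l ^ 1 : ℕ) : ℤ_[l]) ∣ ((((a : ℤ) - (((a : ℤ_[l]).appr 1 : ℕ) : ℤ) : ℤ)) : ℤ_[l]) := by
        push_cast
        exact h8
      rw [Nat.modEq_iff_dvd]
      have h10 : ‖((((a : ℤ) - (((a : ℤ_[l]).appr 1 : ℕ) : ℤ) : ℤ)) : ℤ_[l])‖ < 1 := by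
        rw [PadicInt.norm_lt_one_iff_dvd]
        rwa [pow_one] at h9
      rw [PadicInt.norm_int_lt_one_iff_dvd] at h10
      rwa [pow_one]
    rw [h7, ha, chA_apply]
  choose a ha using h3
  refine ⟨a, ?_⟩
  rw [LinearMap.comp_apply, ← sub_eq_zero, ← map_sub, Submodule.mkQ_apply, Submodule.Quotient.mk_eq_zero]
  have h5 := (K510.TateMod.mem_smul_top (l := l) 1 (bm ζ hζ0 hζ a - x)).2 (by
    apply (K510.TateMod.val_eq_zero_iff _ 1).1
    change cp 1 (bm ζ hζ0 hζ a - x) = 1
    rw [cp_sub, div_eq_one]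
    refine ext_single fun i => ?_
    rw [chv_bm, ha])
  rwa [pow_one] at h5

/-- the basis -/
noncomputable def bE : (Fin r → ℤ_[l]) ≃ₗ[ℤ_[l]] TateMod (D F r) l (E F) :=
  LinearEquiv.ofBijective (bm ζ hζ0 hζ) ⟨bm_injective ζ hζ0 hζ hζ', bm_surjective ζ hζ0 hζ hζ'⟩

include hζ0 hζ in
theorem free_tate : Module.Free ℤ_[l] (TateMod (D F r) l (E F)) := Module.Free.of_equiv (bE ζ hζ0 hζ hζ')

include hζ0 hζ in
theorem finite_tate : Module.Finite ℤ_[l] (TateMod (D F r) l (E F)) := Module.Finite.equiv (bE ζ hζ0 hζ hζ')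

include hζ0 hζ in
theorem finrank_tate : Module.finrank ℤ_[l] (TateMod (D F r) l (E F)) = r := by
  rw [← (bE ζ hζ0 hζ hζ').finrank_eq, Module.finrank_fin_fun]

theorem pow_appr (n : ℕ) (b : ℤ) : ζ n ^ ((b : ℤ_[l]).appr n) = ζ n ^ b := by
  rw [← zpow_natCast, ← orderOf_dvd_sub_iff_zpow_eq_zpow, hζ']
  have h1 := PadicInt.appr_spec n (b : ℤ_[l])
  rw [← PadicInt.norm_le_pow_iff_mem_span_pow] at h1
  have h2 : ((b : ℤ_[l]) - (((b : ℤ_[l]).appr n : ℕ) : ℤ_[l])) = ((b - ((b : ℤ_[l]).appr n : ℤ) : ℤ) : ℤ_[l]) := by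
    push_cast
    rfl
  rw [h2, PadicInt.norm_int_le_pow_iff_dvd] at h1
  rw [← neg_sub, dvd_neg]
  push_cast
  exact h1

end tate

section matrix

variable {F : Type u} [Field F] [IsAlgClosed F] {r : ℕ} {l : ℕ} [hl : Fact l.Prime]

/-- the transpose of the matrix of `φ` -/
def mat (φ : (Fin r → ℤ) →+ (Fin r → ℤ)) : Matrix (Fin r) (Fin r) ℤ := Matrix.of fun i j => φ (Pi.single i 1) j

/-- the homomorphism on points attached to an endomorphism -/
noncomputable def postHom {S : Scheme.{u}} {X : Over S} {G H : Over S} [GrpObj G] [GrpObj H] (f : G ⟶ H) [IsMonHom f] :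
    (X ⟶ G) →* (X ⟶ H) where
  toFun x := x ≫ f
  map_one' := MonObj.one_comp f
  map_mul' x y := MonObj.mul_comp x y f

theorem charpoly_tate (hF : (l : F) ≠ 0) (φ : (Fin r → ℤ) →+ (Fin r → ℤ))
    (f : Module.End ℤ_[l] (TateMod (D F r) l (E F)))
    (hf : ∀ n x, cp n (f x) = cp n x ≫ Red.DSmap (Spec (CommRingCat.of F)) φ) 
    [Module.Free ℤ_[l] (TateMod (D F r) l (E F))] [Module.Finite ℤ_[l] (TateMod (D F r) l (E F))] :
    f.charpoly = ((mat φ).map (Int.cast : ℤ → ℤ_[l])).charpoly := by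
  obtain ⟨ζ, hζ0, hζ, hζ'⟩ := exists_system F l hF
  let e := bE (r := r) ζ hζ0 hζ hζ'
  have h1 : f = e.conj (Matrix.toLin' ((mat φ).map (Int.cast : ℤ → ℤ_[l]))) := by
    apply (e.conj.symm).injective
    rw [LinearEquiv.symm_apply_apply]
    apply (Pi.basisFun ℤ_[l] (Fin r)).ext
    intro j
    change e.symm (f (e (Pi.basisFun ℤ_[l] (Fin r) j))) = _
    rw [LinearEquiv.symm_apply_eq]
    refine ext_cp fun n => ?_
    rw [hf]
    refine ext_single fun i => ?_
    rw [chv_DSmap]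
    have h2 : cp n (e (Pi.basisFun ℤ_[l] (Fin r) j)) = ptj j (ζ n) := by
      refine ext_single fun i => ?_
      change chv (cp n (bm ζ hζ0 hζ _)) _ = _
      rw [chv_bm, chv_ptj_single, Pi.basisFun_apply]
      split_ifs with h
      · subst h
        rw [Pi.single_eq_same]
        have h3 := pow_appr ζ hζ' n (1 : ℤ)
        rw [Int.cast_one, zpow_one] at h3
        rw [h3]
      · rw [Pi.single_eq_of_ne h]
        have h3 := pow_appr ζ hζ' n (0 : ℤ)
        rw [Int.cast_zero, zpow_zero] at h3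
        rw [h3, Units.val_one]
    rw [h2, chv_ptj]
    change _ = chv (cp n (bm ζ hζ0 hζ _)) _
    rw [chv_bm, Matrix.toLin'_apply, Pi.basisFun_apply, Matrix.mulVec_single_one, Matrix.col_apply, Matrix.map_apply,
      pow_appr ζ hζ']
    rfl
  rw [h1, LinearEquiv.charpoly_conj, ← LinearMap.charpoly_toMatrix _ (Pi.basisFun ℤ_[l] (Fin r)),
    LinearMap.toMatrix_eq_toMatrix', LinearMap.toMatrix'_toLin']

end matrix

end K222.TorusTate
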